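import Cfsg.Agent.Lib.UFourType.Main
import Cfsg.Agent.Lib.Hall.MinimalNormal
import Cfsg.Agent.Lib.Cores.Subnormal
import Cfsg.Agent.S0949

/-!
# Reduced groups with a Sylow 2-subgroup of type `U₃(4)` are simple or 2-groups

A minimal normal subgroup with trivial centre has a Sylow subgroup `T` containing `W` with all three
involutions fused in its normaliser, so `T` has order 4, 16 or 64; order 4 is excluded by an element
of order four centralising `T`, order 16 gives a homocyclic group, so `T` is the whole Sylow subgroup.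
-/

set_option autoImplicit false
set_option linter.style.haveILetI false
set_option linter.unusedSectionVars false

namespace Cfsg.Agent.UFourType

open Subgroup
open scoped Pointwise

universe u v

variable {K : Type u} [Group K] [Finite K]

/-- A central involution of a Sylow 2-subgroup fixed by its normaliser is isolated, when all
involutions of the Sylow subgroup are central in it. -/
theorem isolated_of_fixed (T : Sylow 2 K) {W : Subgroup K} (hWT : W ≤ (T : Subgroup K))
    (hcen : ∀ v ∈ W, ∀ s ∈ (T : Subgroup K), v * s = s * v)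
    (hinv : ∀ s ∈ (T : Subgroup K), s * s = 1 → s ∈ W) {w : K} (hw : w ∈ W) (hw2 : orderOf w = 2)
    (hfix : ∀ n ∈ normalizer ((T : Subgroup K) : Set K), n * w * n⁻¹ = w) :
    Cfsg.IsIsolatedInvolution w := by
  haveI : Fact (Nat.Prime 2) := ⟨Nat.prime_two⟩
  have hww := Involutions.Basic.inv_sq_one hw2
  refine ⟨hw2, fun g hg => ?_⟩
  set t := g * w * g⁻¹ with ht
  obtain ⟨c, hc, hcT⟩ := CIT.exists_conj_mem (H := centralizer ({w} : Set K)) (S := T)
    (fun s hs => mem_centralizer_singleton_iff.2 (hcen w hw s hs).symm) (t := t)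
    (mem_centralizer_singleton_iff.2 hg.eq.symm)
    ⟨1, by rw [ht, Involutions.Basic.orderOf_conj, hw2, pow_one]⟩
  have hcW : c * t * c⁻¹ ∈ W := hinv _ hcT (by rw [conj_mul, ht, conj_mul, hww]; group)
  have hmemc : ∀ v ∈ W, v ∈ centralizer ((T : Subgroup K) : Set K) := fun v hv =>
    mem_centralizer_iff.2 fun s hs => (hcen v hv s hs).symm
  have hgw : c * g * w * (c * g)⁻¹ = c * t * c⁻¹ := by rw [ht]; group
  obtain ⟨n, hn, he⟩ := T.conj_eq_normalizer_conj_of_mem_centralizer w (c * g)⁻¹ (hmemc w hw)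
    (by rw [inv_inv, hgw]; exact hmemc _ hcW)
  rw [inv_inv, hgw] at he
  have h1 := hfix n⁻¹ (inv_mem hn)
  rw [inv_inv, ← he] at h1
  show t = w
  calc t = c⁻¹ * (c * t * c⁻¹) * c := by group
    _ = c⁻¹ * (w * c) := by rw [h1]; group
    _ = w := by rw [← mem_centralizer_singleton_iff.1 hc, inv_mul_cancel_left]

/-- The three involutions are fused in the normaliser, when none is isolated. -/
theorem exists_fusing (T : Sylow 2 K) {W : Subgroup K} (hWT : W ≤ (T : Subgroup K))
    (hW : Nat.card W = 4) (hexp : ∀ v ∈ W, v * v = 1)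
    (hcen : ∀ v ∈ W, ∀ s ∈ (T : Subgroup K), v * s = s * v)
    (hinv : ∀ s ∈ (T : Subgroup K), s * s = 1 → s ∈ W)
    (hO : Cfsg.oddCore K = ⊥) (hZ : center K = ⊥) :
    ∀ z ∈ W, z ≠ 1 → ∀ w ∈ W, w ≠ 1 →
      ∃ n ∈ normalizer ((T : Subgroup K) : Set K), n * z * n⁻¹ = w := by
  classical
  haveI := Fintype.ofFinite W
  have hmove : ∀ v ∈ W, v ≠ 1 → ∃ n ∈ normalizer ((T : Subgroup K) : Set K),
      n * v * n⁻¹ ∈ W ∧ n * v * n⁻¹ ≠ 1 ∧ n * v * n⁻¹ ≠ v := by
    intro v hv hv1
    by_contra! hall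
    have hfix : ∀ n ∈ normalizer ((T : Subgroup K) : Set K), n * v * n⁻¹ = v := fun n hn =>
      hall n hn (hinv _ ((mem_normalizer_iff.1 hn v).1 (hWT hv))
        (by rw [conj_mul, hexp v hv]; group)) (fun e => hv1 (conj_eq_one_iff.1 e))
    have hiso := isolated_of_fixed T hWT hcen hinv hv
      (Involutions.Basic.orderOf_two_iff.2 ⟨hexp v hv, hv1⟩) hfix
    have := ZStar.Main.mem_center_of_isolated hO hiso
    rw [hZ, mem_bot] at this
    exact hv1 this
  intro z hz hz1 w hw hw1
  by_cases hzw : z = w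
  · exact ⟨1, one_mem _, by rw [one_mul, inv_one, mul_one, hzw]⟩
  -- the three involutions
  have hthree : ∀ v ∈ W, v = 1 ∨ v = z ∨ v = w ∨ v = z * w := by
    intro v hv
    by_contra hc
    simp only [not_or] at hc
    obtain ⟨c1, c2, c3, c4⟩ := hc
    have hsub : ({1, ⟨z, hz⟩, ⟨w, hw⟩, ⟨z * w, mul_mem hz hw⟩, ⟨v, hv⟩} : Finset W).card ≤ 4 :=
      (Finset.card_le_univ _).trans (by rw [← Nat.card_eq_fintype_card, hW])
    rw [Finset.card_insert_of_notMem, Finset.card_insert_of_notMem, Finset.card_insert_of_notMem,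
      Finset.card_pair] at hsub
    · omega
    · exact fun e => c4 (congrArg Subtype.val e).symm
    · simp only [Finset.mem_insert, Finset.mem_singleton, Subtype.ext_iff, not_or]
      exact ⟨fun e => hz1 (mul_eq_right.1 e.symm), Ne.symm c3⟩
    · simp only [Finset.mem_insert, Finset.mem_singleton, Subtype.ext_iff, not_or]
      exact ⟨hzw, fun e => hw1 (mul_eq_left.1 e.symm), Ne.symm c2⟩
    · simp only [Finset.mem_insert, Finset.mem_singleton, Subtype.ext_iff, not_or,
        OneMemClass.coe_one]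
      refine ⟨Ne.symm hz1, Ne.symm hw1, fun e => hzw ?_, Ne.symm c1⟩
      rw [← inv_eq_of_mul_eq_one_right e.symm, inv_eq_of_mul_eq_one_right (hexp z hz)]
  obtain ⟨n, hn, hnW, hn1, hnz⟩ := hmove z hz hz1
  rcases hthree _ hnW with e | e | e | e
  · exact absurd e hn1
  · exact absurd e hnz
  · exact ⟨n, hn, e⟩
  obtain ⟨m, hm, hmW, hm1, hmw⟩ := hmove w hw hw1
  rcases hthree _ hmW with e' | e' | e' | e'
  · exact absurd e' hm1
  · exact ⟨m⁻¹, inv_mem hm, by rw [← e']; group⟩
  · exact absurd e' hmw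
  · refine ⟨m⁻¹ * n, mul_mem (inv_mem hm) hn, ?_⟩
    rw [show m⁻¹ * n * z * (m⁻¹ * n)⁻¹ = m⁻¹ * (n * z * n⁻¹) * m by group, e, ← e']
    group

/-- A subgroup of exponent four and order sixteen with one class of squares is homocyclic. -/
theorem homocyclic_equiv {T W : Subgroup K} (hT : Nat.card T = 16) (hW : Nat.card W = 4)
    (hWT : W ≤ T) (hexp : ∀ v ∈ W, v * v = 1) (hcen : ∀ v ∈ W, ∀ s ∈ T, v * s = s * v)
    (hinv : ∀ s ∈ T, s * s = 1 → s ∈ W) (hsq : ∀ s ∈ T, s * s ∈ W)
    (hroots : ∀ v ∈ W, v ≠ 1 → Nat.card {t : T // (t : K) * t = v} = 4) :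
    Nonempty (T ≃* Multiplicative (ZMod (2 ^ 2) × ZMod (2 ^ 2))) := by
  classical
  haveI := Fintype.ofFinite W
  have hex : ∀ v ∈ W, v ≠ 1 → ∃ t ∈ T, t * t = v := fun v hv hv1 => by
    obtain ⟨⟨t, ht⟩⟩ := (Nat.card_pos_iff.1 (by rw [hroots v hv hv1]; norm_num :
      0 < Nat.card {t : T // (t : K) * t = v})).1
    exact ⟨t, t.2, ht⟩
  -- the roots of a square are one coset
  have hcoset : ∀ x ∈ T, x ∉ W → ∀ t ∈ T, t * t = x * x → ∃ v ∈ W, t = x * v := by
    intro x hx hxW t ht htt
    let f : W → {s : T // (s : K) * s = x * x} := fun v => ⟨⟨x * v, mul_mem hx (hWT v.2)⟩, by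
      show x * (v : K) * (x * v) = x * x
      rw [mul_assoc, ← mul_assoc (v : K) x, hcen v v.2 x hx, mul_assoc x (v : K), hexp v v.2,
        mul_one]⟩
    have hf : Function.Bijective f := (Nat.bijective_iff_injective_and_card f).2
      ⟨fun a b e => Subtype.ext (mul_left_cancel
        (congrArg (fun s : {s : T // (s : K) * s = x * x} => (s.1 : K)) e)),
        by rw [hW, hroots _ (hsq x hx) fun e => hxW (hinv x hx e)]⟩
    obtain ⟨v, hv⟩ := hf.2 ⟨⟨t, ht⟩, htt⟩
    exact ⟨v, v.2, (congrArg (fun s : {s : T // (s : K) * s = x * x} => (s.1 : K)) hv).symm⟩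
  obtain ⟨a, ha, ha1⟩ : ∃ a ∈ W, a ≠ 1 := by
    haveI : Nontrivial W := Finite.one_lt_card_iff_nontrivial.1 (by rw [hW]; norm_num)
    obtain ⟨a, ha⟩ := exists_ne (1 : W)
    exact ⟨a, a.2, fun e => ha (Subtype.ext e)⟩
  obtain ⟨b, hb, hb1, hba⟩ : ∃ b ∈ W, b ≠ 1 ∧ b ≠ a := by
    by_contra! hall
    have hle : (Finset.univ : Finset W) ⊆ {1, ⟨a, ha⟩} := fun z _ => by
      by_cases e : (z : K) = 1
      · exact Finset.mem_insert.2 (Or.inl (Subtype.ext e))
      · exact Finset.mem_insert.2 (Or.inr (Finset.mem_singleton.2 (Subtype.ext (hall z z.2 e))))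
    have h1 := (Finset.card_le_card hle).trans Finset.card_le_two
    rw [Finset.card_univ, ← Nat.card_eq_fintype_card, hW] at h1
    omega
  obtain ⟨x, hx, hxx⟩ := hex a ha ha1
  obtain ⟨y, hy, hyy⟩ := hex b hb hb1
  have hab1 : a * b ≠ 1 := fun e => hba (by
    rw [← inv_eq_of_mul_eq_one_right e, inv_eq_of_mul_eq_one_right (hexp a ha)])
  have hfour : ∀ v ∈ W, v = 1 ∨ v = a ∨ v = b ∨ v = a * b := by
    intro v hv
    by_contra hc
    simp only [not_or] at hc
    obtain ⟨c1, c2, c3, c4⟩ := hc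
    have hsub : ({1, ⟨a, ha⟩, ⟨b, hb⟩, ⟨a * b, mul_mem ha hb⟩, ⟨v, hv⟩} : Finset W).card ≤ 4 :=
      (Finset.card_le_univ _).trans (by rw [← Nat.card_eq_fintype_card, hW])
    rw [Finset.card_insert_of_notMem, Finset.card_insert_of_notMem, Finset.card_insert_of_notMem,
      Finset.card_pair] at hsub
    · omega
    · exact fun e => c4 (congrArg Subtype.val e).symm
    · simp only [Finset.mem_insert, Finset.mem_singleton, Subtype.ext_iff, not_or]
      exact ⟨fun e => ha1 (mul_eq_right.1 e.symm), Ne.symm c3⟩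
    · simp only [Finset.mem_insert, Finset.mem_singleton, Subtype.ext_iff, not_or]
      exact ⟨Ne.symm hba, fun e => hb1 (mul_eq_left.1 e.symm), Ne.symm c2⟩
    · simp only [Finset.mem_insert, Finset.mem_singleton, Subtype.ext_iff, not_or,
        OneMemClass.coe_one]
      exact ⟨Ne.symm ha1, Ne.symm hb1, Ne.symm hab1, Ne.symm c1⟩
  have hxW : x ∉ W := fun e => ha1 (by rw [← hxx]; exact hexp x e)
  have hyW : y ∉ W := fun e => hb1 (by rw [← hyy]; exact hexp y e)
  have hxyW : x * y ∉ W := fun e => hba (by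
    have h1 : y = x⁻¹ * (x * y) := (inv_mul_cancel_left x y).symm
    have h2 := hcen _ e x⁻¹ (inv_mem hx)
    have h3 := hexp _ e
    calc b = (x⁻¹ * (x * y)) * (x⁻¹ * (x * y)) := by rw [← h1, hyy]
      _ = x⁻¹ * x⁻¹ * (x * y * (x * y)) := by
        rw [mul_assoc, ← mul_assoc (x * y) x⁻¹, h2, mul_assoc x⁻¹ (x * y), ← mul_assoc]
      _ = a := by
        rw [h3, mul_one, ← mul_inv_rev, hxx, inv_eq_of_mul_eq_one_right (hexp a ha)])
  have hcomm : Commute x y := by
    have hxy := mul_mem hx hy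
    rcases hfour _ (hsq _ hxy) with e | e | e | e
    · exact absurd (hinv _ hxy e) hxyW
    · obtain ⟨v, hv, e'⟩ := hcoset x hx hxW _ hxy (e.trans hxx.symm)
      exact absurd (mul_left_cancel e' ▸ hv) hyW
    · obtain ⟨v, hv, e'⟩ := hcoset y hy hyW _ hxy (e.trans hyy.symm)
      rw [← hcen v hv y hy] at e'
      exact absurd (mul_right_cancel e' ▸ hv) hxW
    · rw [← hxx, ← hyy, mul_assoc x y, mul_assoc x x] at e
      have e' := mul_left_cancel e
      rw [← mul_assoc, ← mul_assoc] at e'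
      exact (mul_right_cancel e').symm
  have hx4 : x ^ 4 = 1 := by
    rw [show (4 : ℕ) = 2 * 2 from rfl, pow_mul, pow_two x, hxx, pow_two, hexp a ha]
  have hy4 : y ^ 4 = 1 := by
    rw [show (4 : ℕ) = 2 * 2 from rfl, pow_mul, pow_two y, hyy, pow_two, hexp b hb]
  let φ : Multiplicative (ZMod (2 ^ 2) × ZMod (2 ^ 2)) →* T :=
    { toFun := fun p => ⟨x ^ (p.toAdd.1.val) * y ^ (p.toAdd.2.val),
        mul_mem (pow_mem hx _) (pow_mem hy _)⟩
      map_one' := Subtype.ext (by simp)
      map_mul' := fun p q => Subtype.ext (by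
        show x ^ ((p.toAdd.1 + q.toAdd.1).val) * y ^ ((p.toAdd.2 + q.toAdd.2).val) =
          x ^ (p.toAdd.1.val) * y ^ (p.toAdd.2.val) * (x ^ (q.toAdd.1.val) * y ^ (q.toAdd.2.val))
        rw [ZMod.val_add, ZMod.val_add, ← pow_eq_pow_mod _ (show x ^ (2 ^ 2) = 1 from hx4),
          ← pow_eq_pow_mod _ (show y ^ (2 ^ 2) = 1 from hy4), pow_add, pow_add, mul_assoc, mul_assoc,
          ← mul_assoc (x ^ (ZMod.val (q.toAdd.1))), ((hcomm.pow_pow _ _).eq :),
          ← mul_assoc (y ^ (ZMod.val (p.toAdd.2)))]) }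
  have hsurj : Function.Surjective φ := by
    set R := φ.range.map T.subtype with hR
    have hxR : x ∈ R := ⟨_, ⟨Multiplicative.ofAdd (1, 0), rfl⟩, by
      show x ^ (1 : ZMod (2 ^ 2)).val * y ^ (0 : ZMod (2 ^ 2)).val = x
      rw [ZMod.val_zero, pow_zero, mul_one, show (1 : ZMod (2 ^ 2)).val = 1 from rfl, pow_one]⟩
    have hyR : y ∈ R := ⟨_, ⟨Multiplicative.ofAdd (0, 1), rfl⟩, by
      show x ^ (0 : ZMod (2 ^ 2)).val * y ^ (1 : ZMod (2 ^ 2)).val = y
      rw [ZMod.val_zero, pow_zero, one_mul, show (1 : ZMod (2 ^ 2)).val = 1 from rfl, pow_one]⟩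
    have hWR : W ≤ R := fun v hv => by
      rcases hfour v hv with rfl | rfl | rfl | rfl
      · exact one_mem _
      · exact hxx ▸ mul_mem hxR hxR
      · exact hyy ▸ mul_mem hyR hyR
      · exact hxx ▸ hyy ▸ mul_mem (mul_mem hxR hxR) (mul_mem hyR hyR)
    intro t
    suffices ht : (t : K) ∈ R by
      obtain ⟨_, ⟨p, rfl⟩, e⟩ := ht
      exact ⟨p, Subtype.ext e⟩
    rcases hfour _ (hsq t t.2) with e | e | e | e
    · exact hWR (hinv _ t.2 e)
    · obtain ⟨v, hv, e'⟩ := hcoset x hx hxW t t.2 (e.trans hxx.symm)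
      exact e' ▸ mul_mem hxR (hWR hv)
    · obtain ⟨v, hv, e'⟩ := hcoset y hy hyW t t.2 (e.trans hyy.symm)
      exact e' ▸ mul_mem hyR (hWR hv)
    · obtain ⟨v, hv, e'⟩ := hcoset (x * y) (mul_mem hx hy) hxyW t t.2 (e.trans (by
        rw [← hxx, ← hyy, hcomm.mul_mul_mul_comm]))
      exact e' ▸ mul_mem (mul_mem hxR hyR) (hWR hv)
  have hbij : Function.Bijective φ := (Nat.bijective_iff_surjective_and_card φ).2 ⟨hsurj, by
    rw [hT, Nat.card_congr Multiplicative.toAdd, Nat.card_prod, Nat.card_zmod]; norm_num⟩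
  exact ⟨(MulEquiv.ofBijective φ hbij).symm⟩

variable {G : Type u} [Group G] [Finite G] {S : Sylow 2 G} {Z : Subgroup G}

/-- A minimal normal subgroup with trivial centre is everything. -/
theorem minimal_eq_top (h : Base (S : Subgroup G) Z) (hO : Cfsg.oddCore G = ⊥)
    (hO' : ∀ N : Subgroup G, N.Normal → Odd N.index → N = ⊤) (N : Subgroup G) [N.Normal]
    (hN1 : N ≠ ⊥) (hmin : ∀ L : Subgroup G, L.Normal → L ≤ N → L = ⊥ ∨ L = N)
    (hZN : center N = ⊥) : N = ⊤ := by
  classical
  haveI : Fact (Nat.Prime 2) := ⟨Nat.prime_two⟩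
  have hON : Cfsg.oddCore N = ⊥ := InvChar.Core.oddCore_eq_bot_of_isSubnormal hO
    (Subgroup.Normal.isSubnormal inferInstance)
  set T : Sylow 2 N := IsPGroup.toSylow (S.2.comap_subtype)
    (Cores.sylow_subgroupOf_isSubnormal S (A := N) (Subgroup.Normal.isSubnormal inferInstance))
    with hTdef
  have hTm : ∀ x : N, x ∈ (T : Subgroup N) ↔ (x : G) ∈ (S : Subgroup G) := fun _ => Iff.rfl
  have hcen : ∀ v ∈ Z.subgroupOf N, ∀ s ∈ (T : Subgroup N), v * s = s * v := fun v hv s hs =>
    Subtype.ext (h.central _ hv _ hs)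
  have hinv : ∀ s ∈ (T : Subgroup N), s * s = 1 → s ∈ Z.subgroupOf N := fun s hs e =>
    h.involutions _ hs (congrArg Subtype.val e)
  have hexp : ∀ v ∈ Z.subgroupOf N, v * v = 1 := fun v hv => Subtype.ext (h.exp_two _ hv)
  have hWT : Z.subgroupOf N ≤ (T : Subgroup N) := fun v hv => h.W_le hv
  -- `N` contains `Z`
  obtain ⟨z, hzT, hz2⟩ : ∃ z ∈ (T : Subgroup N), orderOf z = 2 := by
    obtain ⟨⟨z, hz⟩, hz2⟩ : ∃ z : (T : Subgroup N), orderOf z = 2 := by
      refine exists_prime_orderOf_dvd_card' 2 ?_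
      refine Sylow.dvd_card_of_dvd_card T ?_
      by_contra h2
      have h1 := InvChar.Core.le_oddCore (inferInstance : N.Normal)
        (Nat.not_even_iff_odd.1 fun he => h2 (even_iff_two_dvd.1 he))
      rw [hO, le_bot_iff] at h1
      exact hN1 h1
    exact ⟨z, hz, by rwa [Subgroup.orderOf_mk] at hz2⟩
  have hzW := hinv z hzT (Involutions.Basic.inv_sq_one hz2)
  have hZle : Z ≤ N := by
    by_contra hnot
    have huniq : ∀ v ∈ Z.subgroupOf N, v ≠ 1 → v = z := by
      intro v hv hv1
      by_contra hvz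
      refine hnot fun w hw => ?_
      haveI := Fintype.ofFinite Z
      by_contra hwN
      have hne : ∀ u : N, w ≠ (u : G) := fun u e => hwN (e ▸ u.2)
      have hsub : ({1, ⟨z, hzW⟩, ⟨v, hv⟩, ⟨(z * v : N), mul_mem (show (z : G) ∈ Z from hzW) hv⟩,
          ⟨w, hw⟩} : Finset Z).card ≤ 4 :=
        (Finset.card_le_univ _).trans (by rw [← Nat.card_eq_fintype_card, h.card_W])
      have hzv : z * v ≠ 1 := fun e => hvz (by
        rw [← inv_eq_of_mul_eq_one_right e, Involutions.Basic.inv_eq hz2])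
      rw [Finset.card_insert_of_notMem, Finset.card_insert_of_notMem, Finset.card_insert_of_notMem,
        Finset.card_pair] at hsub
      · omega
      · exact fun e => hne (z * v) (congrArg Subtype.val e).symm
      · simp only [Finset.mem_insert, Finset.mem_singleton, Subtype.ext_iff, not_or]
        exact ⟨fun e => Involutions.Basic.ne_one hz2 (mul_eq_right.1 (Subtype.ext e.symm)),
          (hne _).symm⟩
      · simp only [Finset.mem_insert, Finset.mem_singleton, Subtype.ext_iff, not_or]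
        exact ⟨fun e => hvz (Subtype.ext e.symm),
          fun e => hv1 (mul_eq_left.1 (Subtype.ext e.symm)), (hne _).symm⟩
      · simp only [Finset.mem_insert, Finset.mem_singleton, Subtype.ext_iff, not_or,
          OneMemClass.coe_one]
        exact ⟨fun e => Involutions.Basic.ne_one hz2 (Subtype.ext e.symm),
          fun e => hv1 (Subtype.ext e.symm), fun e => hzv (Subtype.ext e.symm), (hne 1).symm⟩
    have hiso := isolated_of_fixed T hWT hcen hinv hzW hz2 fun n hn =>
      huniq _ (hinv _ ((mem_normalizer_iff.1 hn z).1 hzT)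
        (by rw [conj_mul, Involutions.Basic.inv_sq_one hz2]; group))
        (fun e => Involutions.Basic.ne_one hz2 (conj_eq_one_iff.1 e))
    have := ZStar.Main.mem_center_of_isolated hON hiso
    rw [hZN, mem_bot] at this
    exact Involutions.Basic.ne_one hz2 this
  have hW4 : Nat.card (Z.subgroupOf N) = 4 :=
    (Nat.card_congr (subgroupOfEquivOfLe hZle).toEquiv).trans h.card_W
  have hfuse := exists_fusing T hWT hW4 hexp hcen hinv hON hZN
  haveI := Fintype.ofFinite (T : Subgroup N)
  haveI := Fintype.ofFinite (Z.subgroupOf N)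
  let R : N → ℕ := fun v => Nat.card {t : (T : Subgroup N) // (t : N) * t = v}
  have hR : ∀ v ∈ Z.subgroupOf N, v ≠ 1 → R v = R z := by
    intro v hv hv1
    obtain ⟨n, hn, hnv⟩ := hfuse v hv hv1 z hzW (Involutions.Basic.ne_one hz2)
    exact Nat.card_congr
      { toFun := fun t => ⟨⟨n * t.1 * n⁻¹, (mem_normalizer_iff.1 hn _).1 t.1.2⟩, by
          show n * (t.1 : N) * n⁻¹ * (n * t.1 * n⁻¹) = z
          rw [conj_mul, t.2, hnv]⟩
        invFun := fun t => ⟨⟨n⁻¹ * t.1 * n, (mem_normalizer_iff''.1 hn _).1 t.1.2⟩, by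
          show n⁻¹ * (t.1 : N) * n * (n⁻¹ * t.1 * n) = v
          rw [show n⁻¹ * (t.1 : N) * n * (n⁻¹ * t.1 * n) = n⁻¹ * ((t.1 : N) * t.1) * n by group,
            t.2, ← hnv]
          group⟩
        left_inv := fun t => Subtype.ext (Subtype.ext (by group))
        right_inv := fun t => Subtype.ext (Subtype.ext (by group)) }
  have hcount : Nat.card (T : Subgroup N) = 4 + 3 * R z := by
    have e1 : Nat.card (T : Subgroup N) = ∑ v : Z.subgroupOf N, R v := by
      rw [← Nat.card_sigma]
      exact Nat.card_congr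
        { toFun := fun t => ⟨⟨(t : N) * t, h.sq _ ((hTm _).1 t.2)⟩, t, rfl⟩
          invFun := fun p => p.2.1
          left_inv := fun _ => rfl
          right_inv := by
            rintro ⟨v, t, ht⟩
            obtain rfl : (⟨(t : N) * t, h.sq _ ((hTm _).1 t.2)⟩ : Z.subgroupOf N) = v := Subtype.ext ht
            rfl }
    have h1 : R 1 = 4 := by
      rw [← hW4]
      exact Nat.card_congr
        { toFun := fun t => ⟨t.1, hinv _ t.1.2 t.2⟩
          invFun := fun v => ⟨⟨v, hWT v.2⟩, hexp _ v.2⟩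
          left_inv := fun _ => rfl
          right_inv := fun _ => rfl }
    rw [e1, ← Finset.add_sum_erase _ _ (Finset.mem_univ (1 : Z.subgroupOf N)), OneMemClass.coe_one,
      h1, Finset.sum_congr rfl fun (v : Z.subgroupOf N) hv => hR v v.2 fun e =>
        (Finset.mem_erase.1 hv).1 (Subtype.ext e), Finset.sum_const,
      Finset.card_erase_of_mem (Finset.mem_univ _), Finset.card_univ, ← Nat.card_eq_fintype_card,
      hW4, smul_eq_mul]
  obtain ⟨k, hk, hTk⟩ : ∃ k, k ≤ 6 ∧ Nat.card (T : Subgroup N) = 2 ^ k := by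
    refine (Nat.dvd_prime_pow Nat.prime_two).1 ?_
    have h1 : Nat.card (T : Subgroup N) ∣ Nat.card (S : Subgroup G) := by
      rw [← card_map_of_injective N.subtype_injective (K := (T : Subgroup N))]
      refine card_dvd_of_le ?_
      rintro _ ⟨t, ht, rfl⟩
      exact ht
    rw [h.card_T] at h1
    exact h1
  have hk2 : 2 ≤ k := by
    by_contra hlt
    have h1 := card_dvd_of_le hWT
    rw [hW4, hTk] at h1
    have := Nat.le_of_dvd (by positivity) h1
    interval_cases k <;> omega
  interval_cases k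
  · -- order four: an element of order four centralises `T`
    exfalso
    obtain ⟨x, hx, hxZ⟩ : ∃ x ∈ (S : Subgroup G), x ∉ Z := by
      by_contra! hall
      have := card_dvd_of_le (hall : (S : Subgroup G) ≤ Z)
      rw [h.card_T, h.card_W] at this
      omega
    have hSN : ∀ v ∈ (S : Subgroup G), v ∈ N → v ∈ Z := by
      intro v hv hvN
      have he : Z.subgroupOf N = (T : Subgroup N) :=
        eq_of_le_of_card_ge hWT (by rw [hW4, hTk]; norm_num)
      have h1 : (⟨v, hvN⟩ : N) ∈ Z.subgroupOf N := he.ge ((hTm _).2 hv)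
      exact h1
    set M := N ⊔ zpowers x with hM
    set P := (S : Subgroup G) ⊓ M with hP
    have hxM : x ∈ M := mem_sup_right (mem_zpowers x)
    have hPN : P ⊓ N = Z := by
      refine le_antisymm (fun v hv => hSN v hv.1.1 hv.2) fun v hv => ?_
      exact mem_inf.2 ⟨mem_inf.2 ⟨h.W_le hv, mem_sup_left (hZle hv)⟩, hZle hv⟩
    have hPM : P ⊔ N = M := le_antisymm (sup_le inf_le_right le_sup_left)
      (sup_le le_sup_right (zpowers_le.2 (mem_sup_left (mem_inf.2 ⟨hx, hxM⟩))))
    have hdec : ∀ v ∈ P, ∃ i : ℤ, ∃ c ∈ Z, v = c * x ^ i := by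
      intro v hv
      have hv' : v ∈ (N : Set G) * (zpowers x : Set G) := by
        rw [← normal_mul]; exact hv.2
      obtain ⟨n, hn, _, ⟨i, rfl⟩, rfl⟩ := hv'
      refine ⟨i, n, hSN n ?_ hn, rfl⟩
      have := mul_mem (mem_inf.1 hv).1 (inv_mem (zpow_mem hx i))
      rwa [mul_inv_cancel_right] at this
    have hPab : ∀ v ∈ P, ∀ w ∈ P, v * w = w * v := by
      intro v hv w hw
      obtain ⟨i, c, hc, rfl⟩ := hdec v hv
      obtain ⟨j, d, hd, rfl⟩ := hdec w hw
      have c1 : Commute c (d * x ^ j) := h.central c hc _ (mul_mem (h.W_le hd) (zpow_mem hx j))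
      have c2 : Commute (x ^ i) d := (h.central d hd _ (zpow_mem hx i)).symm
      exact (c1.mul_left (c2.mul_right (Commute.zpow_zpow_self x i j))).eq
    have hsqP : ∀ v ∈ P, v * v = 1 ∨ v * v = x * x := by
      intro v hv
      obtain ⟨i, c, hc, rfl⟩ := hdec v hv
      have e : c * x ^ i * (c * x ^ i) = (x * x) ^ i := by
        rw [(Commute.mul_zpow (Commute.refl x) i), mul_assoc, ← mul_assoc (x ^ i) c,
          ← h.central c hc _ (zpow_mem hx i), mul_assoc c, ← mul_assoc c c, h.exp_two c hc, one_mul]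
      rw [e]
      rcases Int.even_or_odd' i with ⟨j, rfl | rfl⟩
      · left
        rw [zpow_mul, zpow_two, h.exp_two _ (h.sq x hx), one_zpow]
      · right
        rw [zpow_add_one, zpow_mul, zpow_two, h.exp_two _ (h.sq x hx), one_zpow, one_mul]
    have hidx : ¬ 2 ∣ (P.subgroupOf M).index := by
      have h1 := Cores.card_sup_mul_card_inf P N
      rw [hPM, hPN, h.card_W, ← (P.subgroupOf M).card_mul_index,
        Nat.card_congr (subgroupOfEquivOfLe (inf_le_right : P ≤ M)).toEquiv] at h1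
      have h2 := (T : Subgroup N).card_mul_index
      rw [hTk] at h2
      have h3 : (P.subgroupOf M).index = (T : Subgroup N).index := by
        have hpos : 0 < Nat.card P := Nat.card_pos
        nlinarith
      rw [h3]
      exact T.not_dvd_index
    set P' : Sylow 2 M := IsPGroup.toSylow ((S.2.to_le inf_le_left : IsPGroup 2 P).comap_subtype) hidx
    have hP'm : ∀ v : M, v ∈ (P' : Subgroup M) ↔ (v : G) ∈ P := fun _ => Iff.rfl
    -- two fused squares
    have hxx := h.sq x hx
    have hxx1 : x * x ≠ 1 := fun e => hxZ (h.involutions x hx e)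
    obtain ⟨w, hw, hw1, hwx⟩ : ∃ w ∈ Z, w ≠ 1 ∧ w ≠ x * x := by
      by_contra! hall
      haveI := Fintype.ofFinite Z
      have hle : (Finset.univ : Finset Z) ⊆ {1, ⟨x * x, hxx⟩} := fun u _ => by
        by_cases e : (u : G) = 1
        · exact Finset.mem_insert.2 (Or.inl (Subtype.ext e))
        · exact Finset.mem_insert.2 (Or.inr (Finset.mem_singleton.2 (Subtype.ext (hall u u.2 e))))
      have h1 := (Finset.card_le_card hle).trans Finset.card_le_two
      rw [Finset.card_univ, ← Nat.card_eq_fintype_card, h.card_W] at h1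
      omega
    obtain ⟨n, -, hnw⟩ := hfuse ⟨x * x, hZle hxx⟩ hxx (fun e => hxx1 (congrArg Subtype.val e))
      ⟨w, hZle hw⟩ hw (fun e => hw1 (congrArg Subtype.val e))
    have hnw' : (n : G) * (x * x) * (n : G)⁻¹ = w := congrArg Subtype.val hnw
    have hcP : ∀ v ∈ Z, ∀ hv : v ∈ M,
        (⟨v, hv⟩ : M) ∈ centralizer ((P' : Subgroup M) : Set M) :=
      fun v hvZ hv => mem_centralizer_iff.2 fun s hs => Subtype.ext
        (h.central v hvZ _ ((hP'm s).1 hs).1).symm
    set n' : M := ⟨n, mem_sup_left n.2⟩ with hn'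
    set a : M := ⟨x * x, mem_sup_left (hZle hxx)⟩ with ha
    have hconj : n' * a * n'⁻¹ = (⟨w, mem_sup_left (hZle hw)⟩ : M) := Subtype.ext hnw'
    obtain ⟨m, hm, he⟩ := P'.conj_eq_normalizer_conj_of_mem_centralizer a n'⁻¹ (hcP _ hxx _)
      (by rw [inv_inv, hconj]; exact hcP _ hw _)
    rw [inv_inv, hconj] at he
    have he' : w = (m : G)⁻¹ * (x * x) * m := congrArg Subtype.val he
    have hxm : (m : G)⁻¹ * x * m ∈ P :=
      (hP'm (m⁻¹ * ⟨x, hxM⟩ * m)).1 ((mem_normalizer_iff''.1 hm _).1 ((hP'm _).2 ⟨hx, hxM⟩))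
    rcases hsqP _ hxm with e | e
    · exact hw1 ((he'.trans (by group)).trans e)
    · exact hwx ((he'.trans (by group)).trans e)
  · exfalso; omega
  · -- order sixteen
    exfalso
    have hRz : R z = 4 := by omega
    obtain ⟨e⟩ := homocyclic_equiv (T := (T : Subgroup N)) (by rw [hTk]; norm_num) hW4 hWT hexp hcen
      hinv (fun s hs => h.sq _ hs) fun v hv hv1 => (hR v hv hv1).trans hRz
    have hn := (S0949.result T 2 le_rfl e fun L hL hodd => by
      have h1 := InvChar.Core.le_oddCore hL hodd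
      rwa [hON, le_bot_iff] at h1).1
    haveI : (T : Subgroup N).Characteristic := T.characteristic_of_normal hn
    rcases hmin ((T : Subgroup N).map N.subtype) inferInstance (map_subtype_le _) with e1 | e1
    · rw [map_eq_bot_iff_of_injective _ N.subtype_injective] at e1
      rw [e1, card_bot] at hTk
      omega
    · have hp : IsPGroup 2 N := e1 ▸ T.2.map N.subtype
      haveI : Nontrivial N := N.nontrivial_iff_ne_bot.2 hN1
      have := hp.center_nontrivial
      rw [hZN] at this
      exact not_nontrivial (⊥ : Subgroup N) this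
  · exfalso; omega
  · -- the whole Sylow subgroup
    refine hO' N inferInstance (Nat.not_even_iff_odd.1 fun he => S.not_dvd_index ?_)
    have hle : (S : Subgroup G) ≤ N := by
      have hmap : (T : Subgroup N).map N.subtype ≤ (S : Subgroup G) := by
        rintro _ ⟨t, ht, rfl⟩
        exact ht
      rw [← eq_of_le_of_card_ge hmap (by
        rw [card_map_of_injective N.subtype_injective, hTk, h.card_T]; norm_num)]
      exact map_subtype_le _
    exact (even_iff_two_dvd.1 he).trans (index_dvd_of_le hle)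

/-- An abelian minimal normal subgroup forces a 2-group. -/
theorem eq_top_of_abelian (h : Base (S : Subgroup G) Z) (hO : Cfsg.oddCore G = ⊥)
    (hO' : ∀ N : Subgroup G, N.Normal → Odd N.index → N = ⊤) (N : Subgroup G) [N.Normal]
    (hN1 : N ≠ ⊥) (hmin : ∀ L : Subgroup G, L.Normal → L ≤ N → L = ⊥ ∨ L = N)
    (hab : ∀ a ∈ N, ∀ b ∈ N, a * b = b * a) : (S : Subgroup G) = ⊤ := by
  classical
  haveI : Fact (Nat.Prime 2) := ⟨Nat.prime_two⟩
  let L : Subgroup G :=
    { carrier := {x | x ∈ N ∧ x * x = 1}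
      one_mem' := ⟨one_mem _, one_mul 1⟩
      mul_mem' := fun {x y} hx hy => ⟨mul_mem hx.1 hy.1, by
        rw [mul_assoc, ← mul_assoc y, ← hab x hx.1 y hy.1, mul_assoc, hy.2, mul_one, hx.2]⟩
      inv_mem' := fun {x} hx => ⟨inv_mem hx.1, by rw [← mul_inv_rev, hx.2, inv_one]⟩ }
  have hLn : L.Normal := ⟨fun x hx g => ⟨(inferInstance : N.Normal).conj_mem x hx.1 g, by
    rw [conj_mul, hx.2]; group⟩⟩
  have hLN : L = N := by
    refine (hmin L hLn fun x hx => hx.1).resolve_left fun e1 => ?_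
    obtain ⟨⟨t, ht⟩, ht2⟩ : ∃ t : N, orderOf t = 2 := by
      refine exists_prime_orderOf_dvd_card' 2 ?_
      by_contra h2
      have h1 := InvChar.Core.le_oddCore (inferInstance : N.Normal)
        (Nat.not_even_iff_odd.1 fun he => h2 (even_iff_two_dvd.1 he))
      rw [hO, le_bot_iff] at h1
      exact hN1 h1
    rw [Subgroup.orderOf_mk] at ht2
    have : t ∈ L := ⟨ht, Involutions.Basic.inv_sq_one ht2⟩
    rw [e1, mem_bot] at this
    exact Involutions.Basic.ne_one ht2 this
  have hexp : ∀ x ∈ N, x * x = 1 := fun x hx => (hLN.ge hx).2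
  have hp : IsPGroup 2 N := fun x => ⟨1, Subtype.ext (by
    show (x : G) ^ 2 ^ 1 = 1
    rw [pow_one, pow_two]; exact hexp x x.2)⟩
  have hNS : N ≤ (S : Subgroup G) := hp.le_sylow_of_normal S
  have hNZ : N ≤ Z := fun x hx => h.involutions x (hNS hx) (hexp x hx)
  -- `Z` is central
  have hcent : Z ≤ center G := by
    have hN4 : Nat.card N ∣ 4 := h.card_W ▸ card_dvd_of_le hNZ
    have hNne : Nat.card N ≠ 1 := fun e => hN1 (card_eq_one.1 e)
    rcases (Nat.dvd_prime_pow Nat.prime_two).1 (show Nat.card N ∣ 2 ^ 2 from hN4) with ⟨k, hk, hNk⟩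
    interval_cases k
    · exact absurd hNk hNne
    · -- one central involution
      obtain ⟨⟨z, hz⟩, hzu⟩ : ∃ z : N, ∀ u : N, u = 1 ∨ u = z := by
        haveI := Fintype.ofFinite N
        haveI : Nontrivial N := N.nontrivial_iff_ne_bot.2 hN1
        obtain ⟨z, hz⟩ := exists_ne (1 : N)
        refine ⟨z, fun u => by_contra fun hc => ?_⟩
        simp only [not_or] at hc
        have hsub : ({1, z, u} : Finset N).card ≤ 2 := (Finset.card_le_univ _).trans
          (by rw [← Nat.card_eq_fintype_card, hNk]; norm_num)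
        rw [Finset.card_insert_of_notMem, Finset.card_pair] at hsub
        · omega
        · exact Ne.symm hc.2
        · simp only [Finset.mem_insert, Finset.mem_singleton, not_or]
          exact ⟨Ne.symm hz, Ne.symm hc.1⟩
      have hz1 : z ≠ 1 := fun e => by
        have hall : ∀ u : N, u = 1 := fun u =>
          (hzu u).elim id fun hu => hu.trans (Subtype.ext e)
        haveI : Nontrivial N := N.nontrivial_iff_ne_bot.2 hN1
        obtain ⟨u, hu⟩ := exists_ne (1 : N)
        exact hu (hall u)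
      intro w hw
      rcases eq_or_ne w 1 with rfl | hw1
      · exact one_mem _
      refine ZStar.Main.mem_center_of_isolated hO (isolated_of_fixed S h.W_le h.central h.involutions
        hw (Involutions.Basic.orderOf_two_iff.2 ⟨h.exp_two w hw, hw1⟩) fun n hn => ?_)
      refine fix_all h hn (hNZ hz) hz1 ?_ hw
      rcases hzu ⟨n * z * n⁻¹, (inferInstance : N.Normal).conj_mem z hz n⟩ with e | e
      · exact absurd (conj_eq_one_iff.1 (congrArg Subtype.val e)) hz1
      · exact congrArg Subtype.val e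
    · have hNeq : N = Z := eq_of_le_of_card_ge hNZ (by rw [h.card_W, hNk]; norm_num)
      subst hNeq
      have hSC : (S : Subgroup G) ≤ centralizer (N : Set G) := fun s hs v hv =>
        h.central v hv s hs
      have htop := hO' (centralizer (N : Set G)) inferInstance
        (Nat.not_even_iff_odd.1 fun he => S.not_dvd_index
          ((even_iff_two_dvd.1 he).trans (index_dvd_of_le hSC)))
      intro v hv
      refine mem_center_iff.2 fun g => ?_
      exact ((mem_centralizer_iff.1 (htop ▸ mem_top g)) v hv).symm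
  rcases central_structure S h hcent hO with htop | ⟨hn, hcard, -⟩
  · exact htop
  · refine absurd (hO' _ hn ?_) fun e => ?_
    · have h1 := (S : Subgroup G).card_mul_index
      rw [h.card_T, hcard] at h1
      rw [show (S : Subgroup G).index = 5 by omega]
      decide
    · have h1 := h.card_T
      rw [e, card_top, hcard] at h1
      omega

/-- The model gives the internal properties. -/
theorem base_of_psu (S : Sylow 2 G) {F : Type v} [Field F] [Fintype F] (hF : Fintype.card F = 16)
    (P : Sylow 2 (Cfsg.PSU 3 F 4)) (e : (S : Subgroup G) ≃* (P : Subgroup (Cfsg.PSU 3 F 4))) :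
    Base (S : Subgroup G) ((center (S : Subgroup G)).map (S : Subgroup G).subtype) := by
  obtain ⟨h64, h4, hinv, hsq, hexp, hfull⟩ := CIT.UFour.model_facts hF P e
  have hmem : ∀ x : (S : Subgroup G),
      (x : G) ∈ (center (S : Subgroup G)).map (S : Subgroup G).subtype ↔
        x ∈ center (S : Subgroup G) := fun x =>
    Subgroup.mem_map_iff_mem (S : Subgroup G).subtype_injective
  refine ⟨map_subtype_le _, h64, ?_, ?_, ?_, fun x hx e1 => (hmem ⟨x, hx⟩).2 (hinv _ (Subtype.ext e1)),
    fun x hx => (hmem _).2 (hsq ⟨x, hx⟩), fun x hx hxZ z hz => ?_⟩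
  · rw [card_map_of_injective (S : Subgroup G).subtype_injective, h4]
  · rintro _ ⟨z, hz, rfl⟩
    exact congrArg Subtype.val (hexp z hz)
  · rintro _ ⟨z, hz, rfl⟩ s hs
    exact (congrArg Subtype.val (mem_center_iff.1 hz ⟨s, hs⟩)).symm
  · obtain ⟨z', hz', rfl⟩ := hz
    obtain ⟨s, hs⟩ := hfull ⟨x, hx⟩ (fun hc => hxZ ((hmem ⟨x, hx⟩).2 hc)) z' hz'
    exact ⟨s, s.2, congrArg Subtype.val hs⟩

/-- Simplicity, outside the 2-groups. -/
theorem isSimple_of_reduced (h : Base (S : Subgroup G) Z) (hO : Cfsg.oddCore G = ⊥)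
    (hO' : ∀ N : Subgroup G, N.Normal → Odd N.index → N = ⊤) (hS : (S : Subgroup G) ≠ ⊤) :
    IsSimpleGroup G := by
  haveI : Nontrivial G := by
    have h1 : 1 < Nat.card (S : Subgroup G) := by rw [h.card_T]; norm_num
    haveI := Finite.one_lt_card_iff_nontrivial.1 h1
    exact (S : Subgroup G).subtype_injective.nontrivial
  refine ⟨fun N hN => or_iff_not_imp_left.2 fun hN1 => ?_⟩
  obtain ⟨M, hMn, hMN, hM1, hmin⟩ := Hall.exists_minimal_normal N hN1
  rcases hmin ((center M).map M.subtype) inferInstance (map_subtype_le _) with e | e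
  · have hMtop := minimal_eq_top h hO hO' M hM1 hmin
      ((map_eq_bot_iff_of_injective _ M.subtype_injective).1 e)
    exact top_le_iff.1 (hMtop ▸ hMN)
  · refine absurd (eq_top_of_abelian h hO hO' M hM1 hmin fun a ha b hb => ?_) hS
    obtain ⟨a', ha', rfl⟩ := e.ge ha
    exact (congrArg Subtype.val (mem_center_iff.1 ha' ⟨b, hb⟩)).symm

/-- S0486, given the vanishing of the cores. -/
theorem psu_of_simple [IsSimpleGroup G] (hQ : CoreTrivial.{u}) (S : Sylow 2 G) (F : Type v)
    [Field F] [Fintype F] (hF : Fintype.card F = 16) (P : Sylow 2 (Cfsg.PSU 3 F 4))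
    (e : (S : Subgroup G) ≃* (P : Subgroup (Cfsg.PSU 3 F 4))) :
    Nonempty (G ≃* Cfsg.PSU 3 F 4) := by
  have hb := base_of_psu S hF P e
  have hG : ¬ IsMulCommutative G := fun hc => by
    obtain ⟨x, hx, hxZ⟩ : ∃ x ∈ (S : Subgroup G),
        x ∉ (center (S : Subgroup G)).map (S : Subgroup G).subtype := by
      by_contra! hall
      have := card_dvd_of_le (hall :
        (S : Subgroup G) ≤ (center (S : Subgroup G)).map (S : Subgroup G).subtype)
      rw [hb.card_T, hb.card_W] at this
      omega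
    exact hxZ ⟨⟨x, hx⟩, mem_center_iff.2 fun s => Subtype.ext (hc.is_comm.comm (s : G) x), rfl⟩
  exact simple_case hQ hG (CIT.uFourSylow_of_psu hG S hF P e) F hF

/-- S3176, given the vanishing of the cores. -/
theorem psu_or_top (hQ : CoreTrivial.{u}) (S : Sylow 2 G) (F : Type v) [Field F] [Fintype F]
    (hF : Fintype.card F = 16) (P : Sylow 2 (Cfsg.PSU 3 F 4))
    (e : (S : Subgroup G) ≃* (P : Subgroup (Cfsg.PSU 3 F 4))) (hO : Cfsg.oddCore G = ⊥)
    (hO' : ∀ N : Subgroup G, N.Normal → Odd N.index → N = ⊤) :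
    Nonempty (G ≃* Cfsg.PSU 3 F 4) ∨ (S : Subgroup G) = ⊤ := by
  refine (em ((S : Subgroup G) = ⊤)).symm.imp_left fun hS => ?_
  haveI := isSimple_of_reduced (base_of_psu S hF P e) hO hO' hS
  exact psu_of_simple hQ S F hF P e

end Cfsg.Agent.UFourType
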