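import Cfsg.Agent.Lib.CIT.UFourGroup
import Cfsg.Agent.Lib.Involutions.StronglyEmbedded
import Cfsg.Agent.Lib.Involutions.SylowPSUThree
import Cfsg.Agent.Lib.MonomialMult.FieldChange
import Cfsg.Agent.Lib.CharTheory.BrauerSuzuki.Complement
import Cfsg.Agent.Lib.Blocks.FreeTwo.Cases
import Cfsg.Agent.Lib.PSLOrderSpectrum.Main
import Cfsg.Agent.S1222

/-!
# Sylow 2-subgroups of type `U₃(4)`: identification from the centralisers of involutions

If the centraliser of every involution of `Z` has order 320 and normalises `S`, then the normaliser of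
`S` is strongly embedded of order 960, it has 65 conjugates and `S` is regular on 64 of them, so the
group is `U₃(4)`.
-/

set_option autoImplicit false
set_option linter.style.haveILetI false
set_option linter.unusedSectionVars false
set_option linter.unusedSimpArgs false

namespace Cfsg.Agent.UFourType

open Subgroup
open scoped Pointwise

universe u v

variable {G : Type u} [Group G] [Finite G] {S : Sylow 2 G} {Z : Subgroup G}

/-- The normaliser of the Sylow subgroup. -/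
abbrev nrm (S : Sylow 2 G) : Subgroup G := normalizer ((S : Subgroup G) : Set G)

/-- The base point of the action on the conjugates. -/
abbrev base (S : Sylow 2 G) : G ⧸ nrm S := ((1 : G) : G ⧸ nrm S)

theorem smul_base_eq (g : G) : g • base S = ((g : G) : G ⧸ nrm S) :=
  congrArg QuotientGroup.mk (mul_one g)

theorem smul_base_iff (g : G) : g • base S = base S ↔ g ∈ nrm S := by
  rw [smul_base_eq]
  show ((g : G) : G ⧸ nrm S) = ((1 : G) : G ⧸ nrm S) ↔ _
  rw [QuotientGroup.eq, mul_one, inv_mem_iff]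

variable (h : CIT.UFourSylow S Z)
  (hC : ∀ z ∈ Z, z ≠ 1 → centralizer ({z} : Set G) ≤ nrm S)
  (hc : ∀ z ∈ Z, z ≠ 1 → Nat.card (centralizer ({z} : Set G)) = 320)

include h in
theorem exists_invol : ∃ z ∈ Z, z ≠ 1 ∧ orderOf z = 2 := by
  have : 1 < Nat.card Z := by rw [h.card_Z]; norm_num
  haveI : Nontrivial Z := Finite.one_lt_card_iff_nontrivial.1 this
  obtain ⟨z, hz⟩ := exists_ne (1 : Z)
  have hz1 : (z : G) ≠ 1 := fun e => hz (Subtype.ext e)
  exact ⟨z, z.2, hz1, Involutions.Basic.orderOf_two_iff.2 ⟨CIT.UFour.mul_self_eq_one h z.2, hz1⟩⟩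

include h in
theorem mem_Z_of_invol {t : G} (ht : t ∈ nrm S) (ht2 : orderOf t = 2) : t ∈ Z := by
  have htt := Involutions.Basic.inv_sq_one ht2
  exact h.involutions t (CIT.UFour.mem_of_normalizer ht (k := 1) (by rw [pow_one, pow_two, htt])) htt

include h hC hc in
theorem card_nrm : Nat.card (nrm S) = 960 := by
  obtain ⟨a, ha, haZ, hfpf, ha3, htrans⟩ := CIT.UFour.exists_rotation h
  obtain ⟨z, hz, hz1, -⟩ := exists_invol h
  have hinv : ∀ n ∈ nrm S, n * z * n⁻¹ ∈ Z ∧ n * z * n⁻¹ ≠ 1 := fun n hn =>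
    ⟨h.involutions _ ((mem_normalizer_iff.1 hn z).1 (h.Z_le hz)) (by
      rw [show n * z * n⁻¹ * (n * z * n⁻¹) = n * (z * z) * n⁻¹ by group,
        CIT.UFour.mul_self_eq_one h hz]
      group), fun e => hz1 (conj_eq_one_iff.1 e)⟩
  have hne : ∀ i j : Fin 3, a ^ (i : ℕ) * z * (a ^ (i : ℕ))⁻¹ = a ^ (j : ℕ) * z * (a ^ (j : ℕ))⁻¹ →
      i = j := by
    have h1 : a * z * a⁻¹ ≠ z := hfpf z hz hz1
    have h2 : a ^ 2 * z * (a ^ 2)⁻¹ ≠ z := fun e => h1 (by
      conv_lhs => rw [← e]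
      rw [show a * (a ^ 2 * z * (a ^ 2)⁻¹) * a⁻¹ = a ^ 3 * z * (a ^ 3)⁻¹ by group]
      exact ha3 z hz)
    have h12 : a * z * a⁻¹ ≠ a ^ 2 * z * (a ^ 2)⁻¹ := fun e => h1 (by
      rw [show a ^ 2 * z * (a ^ 2)⁻¹ = a * (a * z * a⁻¹) * a⁻¹ by rw [pow_two]; group] at e
      exact (mul_left_cancel (mul_right_cancel e)).symm)
    intro i j
    fin_cases i <;> fin_cases j <;>
      first
        | exact fun _ => rfl
        | (simp only [pow_zero, pow_one, one_mul, inv_one, mul_one]; exact fun e => absurd e.symm h1)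
        | (simp only [pow_zero, pow_one, one_mul, inv_one, mul_one]; exact fun e => absurd e h1)
        | (simp only [pow_zero, pow_one, one_mul, inv_one, mul_one]; exact fun e => absurd e.symm h2)
        | (simp only [pow_zero, pow_one, one_mul, inv_one, mul_one]; exact fun e => absurd e h2)
        | (simp only [pow_zero, pow_one, one_mul, inv_one, mul_one]; exact fun e => absurd e h12)
        | (simp only [pow_zero, pow_one, one_mul, inv_one, mul_one]; exact fun e => absurd e.symm h12)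
  let f : Fin 3 × centralizer ({z} : Set G) → nrm S := fun p =>
    ⟨a ^ (p.1 : ℕ) * (p.2 : G), mul_mem (pow_mem ha _) (hC z hz hz1 p.2.2)⟩
  have hz' : ∀ c : centralizer ({z} : Set G), (c : G) * z * (c : G)⁻¹ = z := fun c =>
    mul_inv_eq_iff_eq_mul.2 (mem_centralizer_singleton_iff.1 c.2)
  have hf : Function.Bijective f := by
    constructor
    · rintro ⟨i, c⟩ ⟨j, d⟩ e
      have e' : a ^ (i : ℕ) * (c : G) = a ^ (j : ℕ) * (d : G) := congrArg Subtype.val e
      have key : ∀ (k : Fin 3) (c : centralizer ({z} : Set G)),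
          (a ^ (k : ℕ) * (c : G)) * z * (a ^ (k : ℕ) * (c : G))⁻¹ =
            a ^ (k : ℕ) * z * (a ^ (k : ℕ))⁻¹ := fun k c => by
        conv_rhs => rw [← hz' c]
        group
      obtain rfl : i = j := hne i j (by rw [← key i c, ← key j d, e'])
      exact Prod.ext rfl (Subtype.ext (mul_left_cancel e'))
    · intro n
      obtain ⟨hnZ, hn1⟩ := hinv n n.2
      obtain ⟨i, hi⟩ := htrans z hz hz1 _ hnZ hn1
      refine ⟨(i, ⟨(a ^ (i : ℕ))⁻¹ * n, mem_centralizer_singleton_iff.2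
        (mul_inv_eq_iff_eq_mul.1 ?_)⟩), Subtype.ext (mul_inv_cancel_left _ _)⟩
      rw [show (a ^ (i : ℕ))⁻¹ * (n : G) * z * ((a ^ (i : ℕ))⁻¹ * n)⁻¹ =
        (a ^ (i : ℕ))⁻¹ * ((n : G) * z * (n : G)⁻¹) * a ^ (i : ℕ) by group, ← hi]
      group
  rw [← Nat.card_congr (Equiv.ofBijective f hf), Nat.card_prod, Nat.card_fin, hc z hz hz1]

include h hC hc in
theorem stronglyEmbedded [IsSimpleGroup G] : Cfsg.IsStronglyEmbedded (nrm S) := by
  obtain ⟨z, hz, hz1, hz2⟩ := exists_invol h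
  have hzn : z ∈ nrm S := le_normalizer (h.Z_le hz)
  refine Involutions.StronglyEmbedded.of_conj (fun e => ?_)
    (by rw [card_nrm h hC hc]; decide) fun t ht ht2 g hg => ?_
  · have hn : (S : Subgroup G).Normal := normalizer_eq_top_iff.1 e
    rcases hn.eq_bot_or_eq_top with h1 | h1
    · have h2 := h.card_S
      rw [h1, card_bot] at h2
      omega
    · have h2 := card_nrm h hC hc
      rw [e, ← h1, h.card_S] at h2
      omega
  · obtain ⟨a, ha, -, -, -, htrans⟩ := CIT.UFour.exists_rotation h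
    have htZ := mem_Z_of_invol h ht ht2
    have hgZ := mem_Z_of_invol h hg (by rw [Involutions.Basic.orderOf_conj, ht2])
    have ht1 : t ≠ 1 := Involutions.Basic.ne_one ht2
    obtain ⟨i, hi⟩ := htrans t htZ ht1 _ hgZ (fun e => ht1 (conj_eq_one_iff.1 e))
    have hmem : (a ^ (i : ℕ))⁻¹ * g ∈ centralizer ({t} : Set G) :=
      mem_centralizer_singleton_iff.2 (mul_inv_eq_iff_eq_mul.1 (by
        rw [show (a ^ (i : ℕ))⁻¹ * g * t * ((a ^ (i : ℕ))⁻¹ * g)⁻¹ =
          (a ^ (i : ℕ))⁻¹ * (g * t * g⁻¹) * a ^ (i : ℕ) by group, ← hi]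
        group))
    have := mul_mem (pow_mem ha (i : ℕ)) (hC t htZ ht1 hmem)
    rwa [mul_inv_cancel_left] at this

include h hC hc in
/-- An element of order three commutes with no involution. -/
theorem not_commute_invol [IsSimpleGroup G] {w s : G} (hw : orderOf w = 3) (hs : orderOf s = 2)
    (hcomm : Commute w s) : False := by
  obtain ⟨z, hz, hz1, hz2⟩ := exists_invol h
  have hSE := stronglyEmbedded h hC hc
  obtain ⟨g, hg⟩ := isConj_iff.1 (Involutions.StronglyEmbedded.isConj_involutions hSE hs hz2)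
  have hm : g * w * g⁻¹ ∈ centralizer ({z} : Set G) := mem_centralizer_singleton_iff.2 (by
    rw [← hg, conj_mul, conj_mul, hcomm.eq])
  have hd := orderOf_dvd_natCard _ hm
  rw [hc z hz hz1, Involutions.Basic.orderOf_conj, hw] at hd
  omega

include h hC hc in
/-- The elements of `N(S)` of order three in a single extension of `S`, and the abelian quotient. -/
theorem quotient_facts {w : G} (hw : w ∈ nrm S) (hw3 : orderOf w = 3) :
    (∀ x ∈ nrm S, orderOf x = 3 → ∃ i : ℕ, x * (w ^ i)⁻¹ ∈ (S : Subgroup G)) ∧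
      ∀ x ∈ nrm S, x * w * x⁻¹ ≠ w⁻¹ := by
  classical
  haveI : Fact (Nat.Prime 2) := ⟨Nat.prime_two⟩
  set M := nrm S with hM
  set T := (S : Subgroup G).subgroupOf M with hT
  haveI : T.Normal := normal_in_normalizer
  have hTc : Nat.card T = 64 :=
    (Nat.card_congr (subgroupOfEquivOfLe le_normalizer).toEquiv).trans h.card_S
  have hq : Nat.card (M ⧸ T) = 15 := by
    have h1 := T.card_mul_index
    rw [hTc, card_nrm h hC hc] at h1
    rw [← index_eq_card]
    omega
  haveI := Cfsg.Agent.Blocks.FreeTwo.isCyclic_fifteen hq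
  have hnS : ∀ {x : G}, orderOf x = 3 → x ∉ (S : Subgroup G) := fun {x} hx hxS => by
    have := orderOf_dvd_natCard _ hxS
    rw [h.card_S, hx] at this
    omega
  have h3 : ∀ {x : G} (hxM : x ∈ M), orderOf x = 3 →
      orderOf (QuotientGroup.mk' T ⟨x, hxM⟩) = 3 := by
    intro x hxM hx
    have hdvd : orderOf (QuotientGroup.mk' T ⟨x, hxM⟩) ∣ 3 := by
      have := orderOf_map_dvd (QuotientGroup.mk' T) (⟨x, hxM⟩ : M)
      rwa [Subgroup.orderOf_mk, hx] at this
    refine ((Nat.dvd_prime Nat.prime_three).1 hdvd).resolve_left fun h1 => hnS hx ?_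
    rw [orderOf_eq_one_iff, QuotientGroup.mk'_apply, QuotientGroup.eq_one_iff] at h1
    exact mem_subgroupOf.1 h1
  refine ⟨fun x hxM hx => ?_, fun x hxM he => ?_⟩
  · have hz : zpowers (QuotientGroup.mk' T ⟨x, hxM⟩) = zpowers (QuotientGroup.mk' T ⟨w, hw⟩) :=
      CharTheory.BrauerSuzuki.subgroup_eq_of_card _ _ (by rw [Nat.card_zpowers, Nat.card_zpowers, h3, h3] <;>
        assumption)
    obtain ⟨i, hi⟩ := mem_powers_iff_mem_zpowers.2 (hz ▸ mem_zpowers _ :
      QuotientGroup.mk' T ⟨x, hxM⟩ ∈ zpowers (QuotientGroup.mk' T ⟨w, hw⟩))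
    refine ⟨i, ?_⟩
    have hi' : (QuotientGroup.mk' T) ((⟨x, hxM⟩ : M) * ((⟨w, hw⟩ : M) ^ i)⁻¹) = 1 := by
      rw [map_mul, map_inv, map_pow, ← hi]
      exact mul_inv_cancel _
    rw [QuotientGroup.mk'_apply, QuotientGroup.eq_one_iff] at hi'
    exact mem_subgroupOf.1 hi'
  · letI : CommGroup (M ⧸ T) := IsCyclic.commGroup
    have e : QuotientGroup.mk' T ⟨x, hxM⟩ * QuotientGroup.mk' T ⟨w, hw⟩ *
        (QuotientGroup.mk' T ⟨x, hxM⟩)⁻¹ = (QuotientGroup.mk' T ⟨w, hw⟩)⁻¹ := by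
      rw [← map_inv, ← map_inv, ← map_mul, ← map_mul]
      exact congrArg _ (Subtype.ext he)
    rw [mul_inv_cancel_comm, eq_inv_iff_mul_eq_one, ← pow_two] at e
    have h3' := h3 hw hw3
    have := orderOf_dvd_of_pow_eq_one e
    rw [h3'] at this
    omega

include h hC hc in
/-- An involution swapping two fixed points of an element of order three inverts it. -/
theorem swap_inverts [IsSimpleGroup G] {w s : G} (hw3 : orderOf w = 3) (hs : orderOf s = 2)
    {a : G ⧸ nrm S} (ha : w • a = a) (hsa : w • (s • a) = s • a) (hne : s • a ≠ a) :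
    s * w * s⁻¹ = w⁻¹ := by
  obtain ⟨g, rfl⟩ := QuotientGroup.mk_surjective a
  rw [← smul_base_eq] at ha hsa hne
  set w' := g⁻¹ * w * g with hw'
  set s' := g⁻¹ * s * g with hs'
  have hw'3 : orderOf w' = 3 := by
    rw [hw', show g⁻¹ * w * g = g⁻¹ * w * (g⁻¹)⁻¹ by group, Involutions.Basic.orderOf_conj, hw3]
  have hs'2 : orderOf s' = 2 := by
    rw [hs', show g⁻¹ * s * g = g⁻¹ * s * (g⁻¹)⁻¹ by group, Involutions.Basic.orderOf_conj, hs]
  have hwM : w' ∈ nrm S := by
    rw [← smul_base_iff, hw', mul_smul, mul_smul, ha, inv_smul_smul]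
  have hsne : s' ∉ nrm S := fun hm => hne (by
    rw [← smul_base_iff, hs', mul_smul, mul_smul, inv_smul_eq_iff] at hm
    exact hm)
  have hws : w' • (s' • base S) = s' • base S := by
    simp only [hw', hs', mul_smul, smul_inv_smul]
    rw [hsa]
  set x := s' * w' * s'⁻¹ with hx
  have hxM : x ∈ nrm S := by
    rw [← smul_base_iff, hx, Involutions.Basic.inv_eq hs'2, mul_smul, mul_smul, hws, ← mul_smul,
      Involutions.Basic.inv_sq_one hs'2, one_smul]
  have hxs : x • (s' • base S) = s' • base S := by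
    rw [hx, mul_smul, inv_smul_smul, mul_smul, (smul_base_iff w').2 hwM]
  have hx3 : orderOf x = 3 := by rw [hx, Involutions.Basic.orderOf_conj, hw'3]
  obtain ⟨i, hi⟩ := (quotient_facts h hC hc hwM hw'3).1 x hxM hx3
  -- the element of `S` fixes a second point
  have hfix : (x * (w' ^ i)⁻¹) • (s' • base S) = s' • base S := by
    have hwi : ∀ n : ℕ, w' ^ n • (s' • base S) = s' • base S := fun n => by
      induction n with
      | zero => rw [pow_zero, one_smul]
      | succ n ih => rw [pow_succ, mul_smul, hws, ih]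
    rw [mul_smul, inv_smul_eq_iff.2 (hwi i).symm, hxs]
  have hSE := stronglyEmbedded h hC hc
  have hodd := hSE.2.2 s' hsne
  have hmem : x * (w' ^ i)⁻¹ ∈ nrm S ⊓ (nrm S).map (MulAut.conj s').toMonoidHom := by
    refine mem_inf.2 ⟨mul_mem hxM (inv_mem (pow_mem hwM i)), ?_⟩
    refine mem_map.2 ⟨s'⁻¹ * (x * (w' ^ i)⁻¹) * s', ?_, ?_⟩
    · exact (smul_base_iff _).1 (by rw [mul_smul, mul_smul, hfix, inv_smul_smul])
    · show s' * (s'⁻¹ * (x * (w' ^ i)⁻¹) * s') * s'⁻¹ = _
      group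
  have hone := CIT.UFour.eq_one_of_mem_odd hodd hmem hi
  rw [mul_inv_eq_one] at hone
  have hi3 : w' ^ i = w' ^ (i % 3) := by rw [← hw'3, pow_mod_orderOf]
  obtain hr | hr | hr : i % 3 = 0 ∨ i % 3 = 1 ∨ i % 3 = 2 := by omega
  · rw [hi3, hr, pow_zero] at hone
    exact absurd (hone ▸ hx3) (by simp)
  · rw [hi3, hr, pow_one, hx] at hone
    exact (not_commute_invol h hC hc hw'3 hs'2
      (show Commute w' s' from (mul_inv_eq_iff_eq_mul.1 hone).symm)).elim
  · have h3 : w' ^ 2 = w'⁻¹ := eq_inv_of_mul_eq_one_left (by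
      rw [← pow_succ, show 2 + 1 = orderOf w' by rw [hw'3], pow_orderOf_eq_one])
    rw [hi3, hr, h3, hx, hs', hw'] at hone
    calc s * w * s⁻¹ = g * (g⁻¹ * s * g * (g⁻¹ * w * g) * (g⁻¹ * s * g)⁻¹) * g⁻¹ := by group
      _ = w⁻¹ := by rw [hone]; group

include h hC hc in
/-- An element of order three of `N(S)` has at most one further fixed point. -/
theorem fixed_unique [IsSimpleGroup G] {w : G} (hw : w ∈ nrm S) (hw3 : orderOf w = 3)
    {a c : G ⧸ nrm S} (ha : w • a = a) (hc' : w • c = c) (hao : a ≠ base S) (hco : c ≠ base S) :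
    a = c := by
  by_contra hac
  have hSE := stronglyEmbedded h hC hc
  have hwo := (smul_base_iff (S := S) w).2 hw
  have hswap : ∀ x y : G ⧸ nrm S, x ≠ y → ∃ s : G, orderOf s = 2 ∧ s • x = y := fun x y hxy => by
    obtain ⟨z, hz, -, hz2⟩ := exists_invol h
    have hpos : 0 < Nat.card {t : G // orderOf t = 2 ∧ t ∈ nrm S} :=
      Nat.card_pos_iff.2 ⟨⟨z, hz2, le_normalizer (h.Z_le hz)⟩, inferInstance⟩
    rw [← Involutions.StronglyEmbedded.card_swap hSE x y hxy] at hpos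
    obtain ⟨⟨s, h2, hs⟩⟩ := (Nat.card_pos_iff.1 hpos).1
    exact ⟨s, h2, hs⟩
  obtain ⟨s₁, h1, e1⟩ := hswap _ _ (Ne.symm hao)
  obtain ⟨s₂, h2, e2⟩ := hswap _ _ hac
  obtain ⟨s₃, h3, e3⟩ := hswap _ _ hco
  have i1 := swap_inverts h hC hc hw3 h1 hwo (by rw [e1, ha]) (by rw [e1]; exact hao)
  have i2 := swap_inverts h hC hc hw3 h2 ha (by rw [e2, hc']) (by rw [e2]; exact Ne.symm hac)
  have i3 := swap_inverts h hC hc hw3 h3 hc' (by rw [e3, hwo]) (by rw [e3]; exact Ne.symm hco)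
  refine (quotient_facts h hC hc hw hw3).2 (s₃ * (s₂ * s₁)) ((smul_base_iff _).1 ?_) ?_
  · rw [mul_smul, mul_smul, e1, e2, e3]
  · calc s₃ * (s₂ * s₁) * w * (s₃ * (s₂ * s₁))⁻¹
        = s₃ * (s₂ * (s₁ * w * s₁⁻¹) * s₂⁻¹) * s₃⁻¹ := by group
      _ = s₃ * (s₂ * w⁻¹ * s₂⁻¹) * s₃⁻¹ := by rw [i1]
      _ = s₃ * (s₂ * w * s₂⁻¹)⁻¹ * s₃⁻¹ := by group
      _ = s₃ * w * s₃⁻¹ := by rw [i2, inv_inv]
      _ = w⁻¹ := i3

include h hC hc in
/-- The elements of order three of `N(S)` are conjugate under `S` up to powers. -/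
theorem exists_conj_three {w x : G} (hw : w ∈ nrm S) (hw3 : orderOf w = 3)
    (hx : x ∈ nrm S) (hx3 : orderOf x = 3) :
    ∃ u ∈ (S : Subgroup G), ∀ β : G ⧸ nrm S, x • β = β → w • (u • β) = u • β := by
  classical
  haveI : Fact (Nat.Prime 3) := ⟨Nat.prime_three⟩
  set L := (S : Subgroup G) ⊔ zpowers w with hL
  have hwle : zpowers w ≤ nrm S := zpowers_le.2 hw
  have hmemL : ∀ l ∈ L, ∃ u ∈ (S : Subgroup G), ∃ v ∈ zpowers w, l = u * v := by
    intro l hl
    have : l ∈ (zpowers w : Set G) * ((S : Subgroup G) : Set G) := by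
      rw [← coe_mul_of_left_le_normalizer_right _ _ hwle, sup_comm]
      exact hl
    obtain ⟨v, hv, u, hu, rfl⟩ := this
    exact ⟨v * u * v⁻¹, (mem_normalizer_iff.1 (hwle hv) u).1 hu, v, hv,
      (inv_mul_cancel_right _ _).symm⟩
  have hwL : w ∈ L := mem_sup_right (mem_zpowers w)
  have hxL : x ∈ L := by
    obtain ⟨i, hi⟩ := (quotient_facts h hC hc hw hw3).1 x hx hx3
    rw [show x = x * (w ^ i)⁻¹ * w ^ i by group]
    exact mul_mem (mem_sup_left hi) (mem_sup_right (pow_mem (mem_zpowers w) i))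
  have hcardL : Nat.card L ≤ 192 := by
    have hsurj : Function.Surjective (fun p : ↥(S : Subgroup G) × ↥(zpowers w) =>
        (⟨(p.1 : G) * p.2, mul_mem (mem_sup_left p.1.2) (mem_sup_right p.2.2)⟩ : L)) := fun l => by
      obtain ⟨u, hu, v, hv, e⟩ := hmemL l l.2
      exact ⟨(⟨u, hu⟩, ⟨v, hv⟩), Subtype.ext e.symm⟩
    refine (Nat.card_le_card_of_surjective _ hsurj).trans_eq ?_
    rw [Nat.card_prod, Nat.card_zpowers, hw3, h.card_S]
  have hdvdL : 3 ∣ Nat.card L := hw3 ▸ orderOf_dvd_natCard _ hwL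
  have h64 : 64 ∣ Nat.card L := h.card_S ▸ card_dvd_of_le le_sup_left
  have hcard : Nat.card L = 192 := by
    have h192 : 192 ∣ Nat.card L := Nat.Coprime.mul_dvd_of_dvd_of_dvd (by decide) h64 hdvdL
    exact le_antisymm hcardL (Nat.le_of_dvd Nat.card_pos h192)
  have hfac : (Nat.card L).factorization 3 = 1 := by
    rw [hcard, show (192 : ℕ) = 3 * 2 ^ 6 by norm_num,
      Nat.factorization_mul (by norm_num) (by norm_num), Nat.factorization_pow,
      Finsupp.add_apply, Nat.Prime.factorization_self Nat.prime_three]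
    simp [Nat.prime_two.factorization]
  have hp : ∀ {y : G} (hy : y ∈ L), orderOf y = 3 →
      Nat.card (zpowers (⟨y, hy⟩ : L)) = 3 ^ (Nat.card L).factorization 3 := fun {y} hy h3 => by
    rw [hfac, Nat.card_zpowers, Subgroup.orderOf_mk, h3, pow_one]
  set P := Sylow.ofCard _ (hp hwL hw3)
  set R := Sylow.ofCard _ (hp hxL hx3)
  obtain ⟨l, hl⟩ := MulAction.exists_smul_eq L P R
  obtain ⟨u, hu, v, hv, hluv⟩ := hmemL l l.2
  refine ⟨u⁻¹, inv_mem hu, fun β hβ => ?_⟩
  have hmem : l * ⟨w, hwL⟩ * l⁻¹ ∈ (R : Subgroup L) := by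
    rw [← hl, Sylow.coe_subgroup_smul]
    exact ⟨⟨w, hwL⟩, by rw [Sylow.coe_ofCard]; exact mem_zpowers _, rfl⟩
  rw [Sylow.coe_ofCard] at hmem
  obtain ⟨n, hn⟩ := mem_zpowers_iff.1 hmem
  have hn' : x ^ n = u * w * u⁻¹ := by
    have hv' : v * w * v⁻¹ = w := by
      obtain ⟨k, rfl⟩ := mem_zpowers_iff.1 hv
      group
    have e := congrArg Subtype.val hn
    simp only [SubgroupClass.coe_zpow, Subgroup.coe_mul, Subgroup.coe_inv] at e
    rw [e, hluv, show u * v * w * (u * v)⁻¹ = u * (v * w * v⁻¹) * u⁻¹ by group, hv']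
  have hxn : x ^ n • β = β :=
    MulAction.mem_stabilizer_iff.1 (zpow_mem (MulAction.mem_stabilizer_iff.2 hβ) n)
  rw [hn', mul_smul, mul_smul, smul_eq_iff_eq_inv_smul] at hxn
  exact hxn

include h hC hc in
/-- Every further point is fixed by an element of order three of `N(S)`. -/
theorem exists_three_fix [IsSimpleGroup G] {β : G ⧸ nrm S} (hβ : β ≠ base S) :
    ∃ x ∈ nrm S, orderOf x = 3 ∧ x • β = β := by
  classical
  have hSE := stronglyEmbedded h hC hc
  obtain ⟨a, ha, -, hfpf, -, htrans⟩ := CIT.UFour.exists_rotation h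
  obtain ⟨z, hz, hz1, hz2⟩ := exists_invol h
  have hzn : z ∈ nrm S := le_normalizer (h.Z_le hz)
  have hpos : 0 < Nat.card {t : G // orderOf t = 2 ∧ t ∈ nrm S} :=
    Nat.card_pos_iff.2 ⟨⟨z, hz2, hzn⟩, inferInstance⟩
  rw [← Involutions.StronglyEmbedded.card_swap hSE (base S) β (Ne.symm hβ)] at hpos
  obtain ⟨⟨u, hu2, hub⟩⟩ := (Nat.card_pos_iff.1 hpos).1
  have huM : u ∉ nrm S := fun hm => hβ (by rw [← hub, (smul_base_iff u).2 hm])
  set D := nrm S ⊓ (nrm S).map (MulAut.conj u).toMonoidHom with hD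
  have hzaz : orderOf (a * z * a⁻¹) = 2 := by rw [Involutions.Basic.orderOf_conj, hz2]
  obtain ⟨d, hd, hdz⟩ := Involutions.StronglyEmbedded.exists_conj_in_inter hSE hu2 huM hz2 hzn hzaz
    (mul_mem (mul_mem ha hzn) (inv_mem ha))
  have hodd : Odd (Nat.card D) := hSE.2.2 u huM
  have hdiv : Nat.card D ∣ 15 := by
    have h1 := card_dvd_of_le (inf_le_left : D ≤ nrm S)
    rw [card_nrm h hC hc, show (960 : ℕ) = 2 ^ 6 * 15 by norm_num] at h1
    exact (Nat.Coprime.pow_right 6 hodd.coprime_two_right).dvd_of_dvd_mul_left h1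
  by_cases h3 : 3 ∣ Nat.card D
  · haveI : Fact (Nat.Prime 3) := ⟨Nat.prime_three⟩
    obtain ⟨⟨x, hx12⟩, hx3⟩ := exists_prime_orderOf_dvd_card' (G := D) 3 h3
    rw [Subgroup.orderOf_mk] at hx3
    obtain ⟨hx1, hx2⟩ := hx12
    refine ⟨x, hx1, hx3, ?_⟩
    obtain ⟨m, hm, hmx⟩ := hx2
    change u * m * u⁻¹ = x at hmx
    rw [← hub, ← hmx, mul_smul, mul_smul, inv_smul_smul, (smul_base_iff m).2 hm]
  exfalso
  -- an element of order five cannot move `z`
  have h5 : orderOf d ∣ 5 := by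
    refine (orderOf_dvd_natCard _ hd).trans ?_
    rw [show (15 : ℕ) = 3 * 5 by norm_num] at hdiv
    exact ((Nat.prime_three.coprime_iff_not_dvd.2 h3).symm).dvd_of_dvd_mul_left hdiv
  have hne : d * z * d⁻¹ ≠ z := by rw [hdz]; exact hfpf z hz hz1
  have ho : orderOf d = 5 :=
    ((Nat.dvd_prime (by norm_num)).1 h5).resolve_left fun h1 => hne (by
      rw [orderOf_eq_one_iff.1 h1]; group)
  have hdn : ∀ k : ℕ, d ^ k * z * (d ^ k)⁻¹ ∈ Z := fun k => mem_Z_of_invol h
    (mul_mem (mul_mem (pow_mem hd.1 k) hzn) (inv_mem (pow_mem hd.1 k)))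
    (by rw [Involutions.Basic.orderOf_conj, hz2])
  choose f hf using fun k : ℕ => htrans z hz hz1 _ (hdn k) (fun e => hz1 (conj_eq_one_iff.1 e))
  have hinj : Function.Injective (fun k : Fin 5 => f k) := by
    intro k l hkl
    have e : d ^ (k : ℕ) * z * (d ^ (k : ℕ))⁻¹ = d ^ (l : ℕ) * z * (d ^ (l : ℕ))⁻¹ := by
      rw [← hf k, ← hf l, show f k = f l from hkl]
    by_contra hne'
    -- some nontrivial power fixes `z`, hence so does `d`
    have hp : (d ^ (l : ℕ))⁻¹ * d ^ (k : ℕ) ∈ centralizer ({z} : Set G) :=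
      mem_centralizer_singleton_iff.2 (mul_inv_eq_iff_eq_mul.1 (by
        rw [show (d ^ (l : ℕ))⁻¹ * d ^ (k : ℕ) * z * ((d ^ (l : ℕ))⁻¹ * d ^ (k : ℕ))⁻¹ =
          (d ^ (l : ℕ))⁻¹ * (d ^ (k : ℕ) * z * (d ^ (k : ℕ))⁻¹) * d ^ (l : ℕ) by group, e]
        group))
    have hp' : d ^ ((k : ℤ) - (l : ℤ)) ∈ centralizer ({z} : Set G) := by
      rw [show (k : ℤ) - (l : ℤ) = -(l : ℤ) + (k : ℤ) by ring, zpow_add, zpow_neg, zpow_natCast,
        zpow_natCast]
      exact hp
    have hcop : IsCoprime ((k : ℤ) - (l : ℤ)) 5 := by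
      refine ((Nat.prime_iff_prime_int.1 (by norm_num : Nat.Prime 5)).coprime_iff_not_dvd.2 ?_).symm
      intro hdv
      exact hne' (Fin.ext (by have := k.isLt; have := l.isLt; omega))
    obtain ⟨p, q, hpq⟩ := hcop
    refine hne (mul_inv_eq_iff_eq_mul.2 (mem_centralizer_singleton_iff.1 ?_))
    have hd5 : d ^ (5 : ℤ) = 1 := by
      rw [show (5 : ℤ) = ((5 : ℕ) : ℤ) by norm_num, zpow_natCast, ← ho, pow_orderOf_eq_one]
    have : d = (d ^ ((k : ℤ) - (l : ℤ))) ^ p * (d ^ (5 : ℤ)) ^ q := by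
      rw [← zpow_mul, ← zpow_mul, ← zpow_add, mul_comm _ p, mul_comm (5 : ℤ) q, hpq, zpow_one]
    rw [this, hd5, one_zpow, mul_one]
    exact zpow_mem hp' p
  have := Fintype.card_le_of_injective _ hinj
  simp at this

include h hC hc in
/-- `G` is `U₃(4)` over some field with sixteen elements. -/
theorem exists_psu [IsSimpleGroup G] : ∃ (F : Type) (_ : Field F) (_ : Fintype F),
    Fintype.card F = 16 ∧ Nonempty (G ≃* Cfsg.PSU 3 F 4) := by
  classical
  haveI : Fact (Nat.Prime 2) := ⟨Nat.prime_two⟩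
  haveI : Fact (Nat.Prime 3) := ⟨Nat.prime_three⟩
  have hSE := stronglyEmbedded h hC hc
  -- `S` acts freely off the base point
  have hreg : ∀ g : G, g ∉ nrm S → ∀ u ∈ (S : Subgroup G), g⁻¹ * (u * g) ∈ nrm S → u = 1 := by
    intro g hg u hu hm
    refine CIT.UFour.eq_one_of_mem_odd (hSE.2.2 g hg) ⟨le_normalizer hu, g⁻¹ * (u * g), hm, ?_⟩ hu
    show g * (g⁻¹ * (u * g)) * g⁻¹ = u
    group
  obtain ⟨⟨w, hw⟩, hw3⟩ := exists_prime_orderOf_dvd_card' (G := nrm S) 3
    (by rw [card_nrm h hC hc]; norm_num)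
  rw [Subgroup.orderOf_mk] at hw3
  have htr : ∀ g₁ g₂ : G, g₁ ∉ nrm S → g₂ ∉ nrm S →
      ∃ u ∈ (S : Subgroup G), g₂⁻¹ * (u * g₁) ∈ nrm S := by
    intro g₁ g₂ h1 h2
    have hb : ∀ g : G, g ∉ nrm S → ∃ u ∈ (S : Subgroup G), w • (u • (g • base S)) = u • (g • base S) ∧
        u • (g • base S) ≠ base S := fun g hg => by
      obtain ⟨x, hx, hx3, hxb⟩ := exists_three_fix h hC hc (β := g • base S)
        (fun e => hg ((smul_base_iff g).1 e))
      obtain ⟨u, hu, hh⟩ := exists_conj_three h hC hc hw hw3 hx hx3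
      refine ⟨u, hu, hh _ hxb, fun e => hg ?_⟩
      rw [← mul_smul, smul_base_iff] at e
      have := mul_mem (inv_mem (le_normalizer hu : u ∈ nrm S)) e
      rwa [inv_mul_cancel_left] at this
    obtain ⟨u₁, hu₁, f1, n1⟩ := hb g₁ h1
    obtain ⟨u₂, hu₂, f2, n2⟩ := hb g₂ h2
    refine ⟨u₂⁻¹ * u₁, mul_mem (inv_mem hu₂) hu₁, (smul_base_iff _).1 ?_⟩
    rw [mul_smul, mul_smul, mul_smul, fixed_unique h hC hc hw hw3 f1 f2 n1 n2, inv_smul_smul,
      inv_smul_smul]
  have hidx : (nrm S).index = 65 := by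
    obtain ⟨g, hg⟩ : ∃ g, g ∉ nrm S := by
      by_contra! hall
      exact hSE.1 (eq_top_iff.2 fun x _ => hall x)
    let f : Option (S : Subgroup G) → G ⧸ nrm S := fun o =>
      o.elim (base S) fun u => ((u : G) * g) • base S
    have hf : Function.Bijective f := by
      have hout : ∀ u : (S : Subgroup G), (u : G) * g ∉ nrm S := fun u hm => hg (by
        have := mul_mem (inv_mem (le_normalizer u.2 : (u : G) ∈ nrm S)) hm
        rwa [inv_mul_cancel_left] at this)
      constructor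
      · rintro (_ | u) (_ | v) e
        · rfl
        · exact absurd ((smul_base_iff _).1 e.symm) (hout v)
        · exact absurd ((smul_base_iff _).1 e) (hout u)
        · refine congrArg some (Subtype.ext (inv_mul_eq_one.1 (hreg g hg _
            (mul_mem (inv_mem v.2) u.2) ?_)).symm)
          refine (smul_base_iff _).1 ?_
          have e' : ((u : G) * g) • base S = ((v : G) * g) • base S := e
          simp only [mul_smul] at e' ⊢
          rw [e', inv_smul_smul, inv_smul_smul]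
      · intro q
        obtain ⟨k, rfl⟩ := QuotientGroup.mk_surjective q
        rw [← smul_base_eq]
        by_cases hk : k ∈ nrm S
        · exact ⟨none, ((smul_base_iff k).2 hk).symm⟩
        · obtain ⟨u, hu, hm⟩ := htr g k hg hk
          refine ⟨some ⟨u, hu⟩, ?_⟩
          rw [← smul_base_iff, mul_smul, inv_smul_eq_iff] at hm
          exact hm
    haveI := Fintype.ofFinite (S : Subgroup G)
    rw [index_eq_card, ← Nat.card_congr (Equiv.ofBijective f hf), Nat.card_eq_fintype_card,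
      Fintype.card_option, ← Nat.card_eq_fintype_card, h.card_S]
  have hcard : Nat.card G = 62400 := by
    rw [← (nrm S).card_mul_index, card_nrm h hC hc, hidx]
  have hQn : ((S : Subgroup G).subgroupOf (nrm S)).Normal := normal_in_normalizer
  rcases S1222.result (nrm S) hSE (S : Subgroup G) le_normalizer hQn htr hreg with
    ⟨F, _, _, hF2, hF4, ⟨e⟩⟩ | ⟨-, m, hm, hS⟩ | ⟨F, _, _, q, hFq, hqe, hq4, ⟨e⟩⟩
  · exfalso
    have h1 := PSLOrderSpectrum.card_psl_two (F := F)
    obtain ⟨n, -, hn⟩ := FiniteField.card F 2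
    rw [← Nat.card_congr e.toEquiv, hcard, hn] at h1
    have hg : Nat.gcd 2 (2 ^ (n : ℕ) - 1) = 1 := by
      refine (Nat.prime_two.coprime_iff_not_dvd).2 fun hd => ?_
      have h2 : 2 ∣ 2 ^ (n : ℕ) := dvd_pow_self 2 n.pos.ne'
      have := Nat.one_le_two_pow (n := (n : ℕ))
      omega
    rw [hg, one_mul] at h1
    rcases Nat.lt_or_ge (n : ℕ) 6 with hlt | hge
    · interval_cases (n : ℕ) <;> omega
    · have h64 : 2 ^ 6 ≤ 2 ^ (n : ℕ) := Nat.pow_le_pow_right (by norm_num) hge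
      have : 64 * (63 * 65) ≤ 2 ^ (n : ℕ) * ((2 ^ (n : ℕ) - 1) * (2 ^ (n : ℕ) + 1)) :=
        Nat.mul_le_mul h64 (Nat.mul_le_mul (by omega) (by omega))
      omega
  · exfalso
    rw [hcard] at hS
    rcases Nat.lt_or_ge m 2 with hlt | hge
    · obtain rfl : m = 1 := by omega
      norm_num at hS
    · have h32 : 32 ≤ 2 ^ (2 * m + 1) := (by norm_num : 32 = 2 ^ 5) ▸
        Nat.pow_le_pow_right (by norm_num) (by omega)
      have : 32 ^ 2 * (32 ^ 2 + 1) * 31 ≤
          (2 ^ (2 * m + 1)) ^ 2 * ((2 ^ (2 * m + 1)) ^ 2 + 1) * (2 ^ (2 * m + 1) - 1) :=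
        Nat.mul_le_mul (Nat.mul_le_mul (Nat.pow_le_pow_left h32 2)
          (Nat.add_le_add_right (Nat.pow_le_pow_left h32 2) 1)) (by omega)
      omega
  · obtain ⟨p, hp⟩ := CharP.exists F
    haveI := hp
    obtain ⟨k, hpk, hk⟩ := FiniteField.card F p
    have hp2 : p = 2 := by
      have h2 : 2 ∣ p ^ (k : ℕ) := by
        rw [← hk, hFq]
        exact dvd_pow hqe.two_dvd two_ne_zero
      exact ((Nat.prime_dvd_prime_iff_eq Nat.prime_two hpk).1 (Nat.prime_two.dvd_of_dvd_pow h2)).symm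
    subst hp2
    obtain ⟨n, -, rfl⟩ := (Nat.dvd_prime_pow Nat.prime_two).1
      (show q ∣ 2 ^ (k : ℕ) by rw [← hk, hFq]; exact dvd_pow_self q two_ne_zero)
    have h3 := Involutions.SylowPSUThree.factorization_PSU hFq
    rw [← Nat.card_congr e.toEquiv, hcard, show (62400 : ℕ) = 975 * 2 ^ 6 by norm_num,
      Nat.factorization_mul (by norm_num) (by norm_num), Finsupp.add_apply,
      Nat.factorization_eq_zero_of_not_dvd (by norm_num : ¬ 2 ∣ 975), zero_add,
      Nat.factorization_pow_self Nat.prime_two] at h3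
    obtain rfl : n = 2 := by omega
    refine ⟨F, inferInstance, inferInstance, by rw [hFq]; norm_num, ⟨?_⟩⟩
    exact e.trans (MulEquiv.refl _)

/-- `U₃(4)` does not depend on the field with sixteen elements. -/
theorem psu_congr [IsSimpleGroup G] (h : CIT.UFourSylow S Z)
    (hC : ∀ z ∈ Z, z ≠ 1 → centralizer ({z} : Set G) ≤ nrm S)
    (hc : ∀ z ∈ Z, z ≠ 1 → Nat.card (centralizer ({z} : Set G)) = 320)
    (F : Type v) [Field F] [Fintype F] (hF : Fintype.card F = 16) :
    Nonempty (G ≃* Cfsg.PSU 3 F 4) := by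
  obtain ⟨F', _, _, hF', ⟨e⟩⟩ := exists_psu h hC hc
  obtain ⟨f⟩ : Nonempty (F' ≃+* F) :=
    ⟨FiniteField.ringEquivOfCardEq (hF'.trans hF.symm)⟩
  obtain ⟨ψ⟩ := MonomialMult.psu_field_equiv (n := 3) (q := 4) f
  exact ⟨e.trans ψ⟩

end Cfsg.Agent.UFourType
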