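import Mathlib
import Cfsg.Agent.InvChar.Core
import Cfsg.Agent.Lib.Cores.Basic
import Cfsg.Agent.Lib.CentFour.Setup
import Cfsg.Agent.Lib.Blocks.FreeTwo.Prime
import Cfsg.Agent.Lib.CIT.UFourGroup

/-!
# Groups with a Sylow 2-subgroup of type `U₃(4)` whose four-group `W` is central

The quotient by `W` has an elementary abelian Sylow 2-subgroup of order 16 on which its normaliser
acts freely, by an automiser of order 1 or 5; the free case of the block count gives solvability.
-/

set_option autoImplicit false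
set_option linter.style.haveILetI false
set_option linter.unusedSectionVars false

namespace Cfsg.Agent.UFourType

open Subgroup

universe u

variable {H : Type u} [Group H] [Finite H]

/-- The internal properties of a 2-group of type `U₃(4)`. -/
structure Base (T W : Subgroup H) : Prop where
  W_le : W ≤ T
  card_T : Nat.card T = 64
  card_W : Nat.card W = 4
  exp_two : ∀ z ∈ W, z * z = 1
  central : ∀ z ∈ W, ∀ s ∈ T, z * s = s * z
  involutions : ∀ x ∈ T, x * x = 1 → x ∈ W
  sq : ∀ x ∈ T, x * x ∈ W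
  conj_full : ∀ x ∈ T, x ∉ W → ∀ z ∈ W, ∃ s ∈ T, s * x * s⁻¹ = x * z

namespace Base

variable {T W : Subgroup H} (h : Base T W)
include h

theorem comm_mem {s t : H} (hs : s ∈ T) (ht : t ∈ T) : t * s * t⁻¹ * s⁻¹ ∈ W := by
  rw [show t * s * t⁻¹ * s⁻¹ = t * t * (t⁻¹ * s * (t⁻¹ * s)) * (s⁻¹ * s⁻¹) by group]
  exact mul_mem (mul_mem (h.sq t ht) (h.sq _ (mul_mem (inv_mem ht) hs))) (h.sq _ (inv_mem hs))

theorem comm_mul {s t u : H} (hs : s ∈ T) (ht : t ∈ T) (hu : u ∈ T) :
    t * u * s * (t * u)⁻¹ * s⁻¹ = (t * s * t⁻¹ * s⁻¹) * (u * s * u⁻¹ * s⁻¹) := by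
  have h1 := h.central _ (h.comm_mem hs hu) t ht
  have h2 := h.central _ (h.comm_mem hs hu) _ (mul_mem (mul_mem (mul_mem ht hs) (inv_mem ht))
    (inv_mem hs))
  rw [show t * u * s * (t * u)⁻¹ * s⁻¹ = t * (u * s * u⁻¹ * s⁻¹) * t⁻¹ * (t * s * t⁻¹ * s⁻¹) by group,
    ← h1, mul_inv_cancel_right, h2]

/-- The commutator map with a fixed element. -/
def commHom {s : H} (hs : s ∈ T) : T →* W where
  toFun t := ⟨(t : H) * s * (t : H)⁻¹ * s⁻¹, h.comm_mem hs t.2⟩
  map_one' := Subtype.ext (by simp)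
  map_mul' t u := Subtype.ext (h.comm_mul hs t.2 u.2)

theorem commHom_surjective {s : H} (hs : s ∈ T) (hsW : s ∉ W) :
    Function.Surjective (h.commHom hs) := fun z => by
  obtain ⟨t, ht, he⟩ := h.conj_full s hs hsW z z.2
  refine ⟨⟨t, ht⟩, Subtype.ext ?_⟩
  show t * s * t⁻¹ * s⁻¹ = (z : H)
  rw [he, ← h.central z z.2 s hs, mul_inv_cancel_right]

theorem card_centralizer {s : H} (hs : s ∈ T) (hsW : s ∉ W) :
    Nat.card (T ⊓ centralizer ({s} : Set H) : Subgroup H) = 16 := by
  have h1 := (h.commHom hs).ker.card_mul_index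
  rw [Subgroup.index_ker, MonoidHom.range_eq_top.2 (h.commHom_surjective hs hsW), card_top,
    h.card_W, h.card_T] at h1
  have h2 : Nat.card (h.commHom hs).ker = Nat.card (T ⊓ centralizer ({s} : Set H) : Subgroup H) :=
    Nat.card_congr
      { toFun := fun t => ⟨t.1.1, t.1.2, mem_centralizer_singleton_iff.2
          (mul_inv_eq_iff_eq_mul.1 (mul_inv_eq_one.1 (congrArg Subtype.val (MonoidHom.mem_ker.1 t.2))))⟩
        invFun := fun t => ⟨⟨t.1, t.2.1⟩, MonoidHom.mem_ker.2 (Subtype.ext (by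
          show (t : H) * s * (t : H)⁻¹ * s⁻¹ = 1
          rw [mem_centralizer_singleton_iff.1 t.2.2, mul_inv_cancel_right, mul_inv_cancel]))⟩
        left_inv := fun _ => rfl
        right_inv := fun _ => rfl }
  omega

/-- Each involution of `W` is the square of twenty elements. -/
theorem card_roots {w : H} (hw : w ∈ W) (hw1 : w ≠ 1) :
    Nat.card {t : T // (t : H) * t = w} = 20 := by
  classical
  haveI := Fintype.ofFinite T
  haveI := Fintype.ofFinite W
  let M : H → ℕ := fun v => (Finset.univ.filter fun t : T => (t : H) * t = v).card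
  have hM1 : M 1 = 4 := by
    rw [← h.card_W, Nat.card_eq_fintype_card]
    refine Finset.card_bij' (fun t ht => (⟨(t : H), h.involutions _ t.2
      (Finset.mem_filter.1 ht).2⟩ : W)) (fun z _ => (⟨z, h.W_le z.2⟩ : T)) ?_ ?_ ?_ ?_
    · exact fun t _ => Finset.mem_univ _
    · exact fun z _ => Finset.mem_filter.2 ⟨Finset.mem_univ _, h.exp_two z z.2⟩
    · exact fun t _ => rfl
    · exact fun z _ => rfl
  have key : ∀ v ∈ W, v ≠ 1 → M v = 20 ∨ M v = 36 := by
    intro v hv hv1
    let f : H → ℤ := fun x => if x = 1 ∨ x = v then 1 else -1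
    have hfmul : ∀ a ∈ W, ∀ b ∈ W, f (a * b) = f a * f b := by
      intro a ha b hb
      have hbv : ∀ {c : H}, c ∈ W → ∀ {d : H}, c * d = 1 → d = c := fun {c} hc {d} e => by
        rw [← inv_eq_of_mul_eq_one_right e, inv_eq_of_mul_eq_one_right (h.exp_two c hc)]
      have hvv := h.exp_two v hv
      by_cases ha' : a = 1 ∨ a = v
      · rcases ha' with rfl | rfl
        · simp [f]
        · have e1 : f (a * b) = f b := by
            refine if_congr ⟨?_, ?_⟩ rfl rfl
            · rintro (e | e)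
              · exact Or.inr (hbv hv e)
              · exact Or.inl (mul_eq_left.1 e)
            · rintro (rfl | rfl)
              · exact Or.inr (mul_one _)
              · exact Or.inl hvv
          rw [e1]
          simp [f]
      · rw [show f a = -1 from if_neg ha']
        by_cases hb' : b = 1 ∨ b = v
        · rw [show f b = 1 from if_pos hb', show f (a * b) = -1 from if_neg ?_]
          · ring
          rintro (e | e)
          · obtain rfl := hbv ha e
            exact ha' hb'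
          · rcases hb' with rfl | rfl
            · exact ha' (Or.inr (by simpa using e))
            · exact ha' (Or.inl (mul_eq_right.1 e))
        · rw [show f b = -1 from if_neg hb', show f (a * b) = 1 from if_pos ?_]
          · ring
          -- the four elements
          have hne : a ≠ 1 ∧ a ≠ v ∧ b ≠ 1 ∧ b ≠ v :=
            ⟨fun e => ha' (Or.inl e), fun e => ha' (Or.inr e), fun e => hb' (Or.inl e),
              fun e => hb' (Or.inr e)⟩
          by_contra hab
          push Not at hab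
          have hsub : ({⟨1, one_mem W⟩, ⟨v, hv⟩, ⟨a, ha⟩, ⟨b, hb⟩, ⟨a * b, mul_mem ha hb⟩} :
              Finset W).card ≤ 4 := (Finset.card_le_univ _).trans
            (by rw [← Nat.card_eq_fintype_card, h.card_W])
          have hab' : a ≠ b := fun e => hab.1 (by rw [← e]; exact h.exp_two a ha)
          rw [Finset.card_insert_of_notMem, Finset.card_insert_of_notMem,
            Finset.card_insert_of_notMem, Finset.card_pair] at hsub
          · omega
          · exact fun e => hne.1 (mul_eq_right.1 (congrArg Subtype.val e).symm)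
          · simp only [Finset.mem_insert, Finset.mem_singleton, Subtype.ext_iff, not_or]
            exact ⟨hab', fun e => hne.2.2.1 (mul_eq_left.1 e.symm)⟩
          · simp only [Finset.mem_insert, Finset.mem_singleton, Subtype.ext_iff, not_or]
            exact ⟨Ne.symm hne.2.1, Ne.symm hne.2.2.2, Ne.symm hab.2⟩
          · simp only [Finset.mem_insert, Finset.mem_singleton, Subtype.ext_iff, not_or]
            exact ⟨Ne.symm hv1, Ne.symm hne.1, Ne.symm hne.2.2.1, Ne.symm hab.1⟩
    have hf1 : f 1 = 1 := if_pos (Or.inl rfl)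
    have hff : ∀ a ∈ W, f a * f a = 1 := fun a ha => by rw [← hfmul a ha a ha, h.exp_two a ha, hf1]
    let σ : T → ℤ := fun t => f ((t : H) * t)
    have hσ : ∀ t u : T, σ t * σ (t * u) = σ u * f ((t : H)⁻¹ * (u : H) * (t : H) * (u : H)⁻¹) := by
      intro t u
      have hA := h.sq _ t.2
      have hC := h.sq _ u.2
      have hB : (t : H)⁻¹ * (u : H) * (t : H) * (u : H)⁻¹ ∈ W := by
        simpa using h.comm_mem u.2 (inv_mem t.2)
      have e : (((t * u : T) : H) * ((t * u : T) : H)) =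
          (t : H) * t * ((t : H)⁻¹ * (u : H) * (t : H) * (u : H)⁻¹) * ((u : H) * u) := by
        rw [Subgroup.coe_mul]; group
      show f _ * f _ = f _ * f _
      rw [e, hfmul _ (mul_mem hA hB) _ hC, hfmul _ hA _ hB]
      linear_combination f ((t : H)⁻¹ * (u : H) * (t : H) * (u : H)⁻¹) * f ((u : H) * u) *
        hff _ hA
    have hin : ∀ u : T, ∑ t : T, f ((t : H)⁻¹ * (u : H) * (t : H) * (u : H)⁻¹) =
        if (u : H) ∈ W then 64 else 0 := by
      intro u
      have hsum : ∑ t : T, f ((t : H)⁻¹ * (u : H) * (t : H) * (u : H)⁻¹) =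
          ∑ t : T, f ((h.commHom u.2 t : W) : H) := by
        refine Fintype.sum_equiv (Equiv.inv T) _ _ fun t => ?_
        show f _ = f (((t⁻¹ : T) : H) * (u : H) * ((t⁻¹ : T) : H)⁻¹ * (u : H)⁻¹)
        rw [Subgroup.coe_inv, inv_inv]
      rw [hsum]
      split_ifs with hu
      · have : ∀ t : T, f ((h.commHom u.2 t : W) : H) = 1 := fun t => by
          show f ((t : H) * (u : H) * (t : H)⁻¹ * (u : H)⁻¹) = 1
          rw [← h.central _ hu _ t.2, mul_inv_cancel_right, mul_inv_cancel, hf1]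
        rw [Finset.sum_congr rfl fun t _ => this t]
        simp [← Nat.card_eq_fintype_card, h.card_T]
      · obtain ⟨b, hb, hb'⟩ : ∃ b ∈ W, f b = -1 := by
          by_contra! hall
          have hle : (Finset.univ : Finset W) ⊆ {1, ⟨v, hv⟩} := fun z _ => by
            have := hall z z.2
            by_cases e : (z : H) = 1 ∨ (z : H) = v
            · rw [Finset.mem_insert, Finset.mem_singleton]; exact e.imp Subtype.ext Subtype.ext
            · exact absurd (if_neg e) this
          have := (Finset.card_le_card hle).trans Finset.card_le_two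
          rw [Finset.card_univ, ← Nat.card_eq_fintype_card, h.card_W] at this
          omega
        obtain ⟨t₀, ht₀⟩ := h.commHom_surjective u.2 hu ⟨b, hb⟩
        have hshift := Fintype.sum_equiv (Equiv.mulLeft t₀)
          (fun t : T => f ((h.commHom u.2 (t₀ * t) : W) : H))
          (fun t : T => f ((h.commHom u.2 t : W) : H)) fun t => rfl
        have hneg : ∀ t : T, f ((h.commHom u.2 (t₀ * t) : W) : H) =
            - f ((h.commHom u.2 t : W) : H) := fun t => by
          rw [map_mul, ht₀, Subgroup.coe_mul, hfmul b hb _ (h.commHom u.2 t).2, hb', neg_one_mul]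
        rw [Finset.sum_congr rfl fun t _ => hneg t, Finset.sum_neg_distrib] at hshift
        omega
    have hsq : (∑ t : T, σ t) * (∑ t : T, σ t) = 256 := by
      calc (∑ t : T, σ t) * (∑ t : T, σ t) = ∑ t : T, ∑ u : T, σ t * σ (t * u) := by
            rw [Finset.sum_mul]
            refine Finset.sum_congr rfl fun t _ => ?_
            rw [Finset.mul_sum]
            exact (Fintype.sum_equiv (Equiv.mulLeft t) (fun u => σ t * σ (t * u))
              (fun u => σ t * σ u) fun u => rfl).symm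
        _ = ∑ u : T, σ u * ∑ t : T, f ((t : H)⁻¹ * (u : H) * (t : H) * (u : H)⁻¹) := by
            rw [Finset.sum_comm]
            refine Finset.sum_congr rfl fun u _ => ?_
            rw [Finset.mul_sum]
            exact Finset.sum_congr rfl fun t _ => hσ t u
        _ = ∑ u : T, if (u : H) * u = 1 then (64 : ℤ) else 0 := by
            refine Finset.sum_congr rfl fun u _ => ?_
            rw [hin]
            by_cases hu : (u : H) ∈ W
            · rw [if_pos hu, if_pos (h.exp_two _ hu),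
                show σ u = 1 by show f _ = 1; rw [h.exp_two _ hu, hf1], one_mul]
            · rw [if_neg hu, if_neg fun e => hu (h.involutions _ u.2 e), mul_zero]
        _ = 256 := by
            rw [← Finset.sum_filter, Finset.sum_const,
              show (Finset.univ.filter fun u : T => (u : H) * u = 1).card = 4 from hM1]
            norm_num
    have hsplit : ∑ t : T, σ t = 2 * ((M 1 : ℤ) + M v) - 64 := by
      have e : ∀ t : T, σ t = 2 * (if (t : H) * t = 1 then (1 : ℤ) else 0) +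
          2 * (if (t : H) * t = v then 1 else 0) - 1 := fun t => by
        show f _ = _
        by_cases e1 : (t : H) * t = 1
        · rw [if_pos e1, if_neg (by rw [e1]; exact Ne.symm hv1), e1, hf1]; ring
        · by_cases e2 : (t : H) * t = v
          · rw [if_neg e1, if_pos e2, show f ((t : H) * t) = 1 from if_pos (Or.inr e2)]; ring
          · rw [if_neg e1, if_neg e2, show f ((t : H) * t) = -1 from if_neg (by simp [e1, e2])]
            ring
      rw [Finset.sum_congr rfl fun t _ => e t, Finset.sum_sub_distrib, Finset.sum_add_distrib,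
        ← Finset.mul_sum, ← Finset.mul_sum, Finset.sum_boole, Finset.sum_boole]
      simp only [Finset.sum_const, Finset.card_univ, ← Nat.card_eq_fintype_card, h.card_T, M]
      push_cast
      ring
    rw [hsplit, hM1] at hsq
    have : ((2 * ((4 : ℤ) + M v) - 64) - 16) * ((2 * ((4 : ℤ) + M v) - 64) + 16) = 0 := by
      push_cast at hsq
      linear_combination hsq
    rcases mul_eq_zero.1 this with e | e <;> omega
  have htot : ∑ z : W, M z = 64 := by
    rw [← h.card_T, Nat.card_eq_fintype_card, ← Finset.card_univ]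
    exact (Finset.card_eq_sum_card_fiberwise (f := fun t : T => (⟨(t : H) * t, h.sq _ t.2⟩ : W))
      (t := Finset.univ) (fun t _ => Finset.mem_univ _)).trans
      (Finset.sum_congr rfl fun z _ => congrArg Finset.card
        (Finset.filter_congr fun t _ => Subtype.ext_iff)) |>.symm
  rw [Nat.card_eq_fintype_card, Fintype.card_subtype]
  show M w = 20
  rcases key w hw hw1 with e | e
  · exact e
  exfalso
  have hge : ∀ z ∈ ((Finset.univ : Finset W).erase ⟨w, hw⟩).erase 1, 20 ≤ M z := fun z hz => by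
    simp only [Finset.mem_erase, ne_eq, Finset.mem_univ, and_true] at hz
    rcases key z z.2 (fun e' => hz.1 (Subtype.ext e')) with e' | e' <;> omega
  have hne : (1 : W) ≠ ⟨w, hw⟩ := fun e' => hw1 (congrArg Subtype.val e').symm
  have h2 := Finset.card_nsmul_le_sum _ _ _ hge
  rw [Finset.card_erase_of_mem (Finset.mem_erase.2 ⟨hne, Finset.mem_univ _⟩),
    Finset.card_erase_of_mem (Finset.mem_univ _), Finset.card_univ, ← Nat.card_eq_fintype_card,
    h.card_W, smul_eq_mul] at h2
  rw [← Finset.add_sum_erase _ _ (Finset.mem_univ (⟨w, hw⟩ : W)),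
    ← Finset.add_sum_erase _ (fun z : W => M z) (Finset.mem_erase.2 ⟨hne, Finset.mem_univ _⟩)] at htot
  rw [OneMemClass.coe_one] at htot
  simp only [] at htot
  omega

end Base

/-- Fixing one involution of `W` in the normaliser of the Sylow subgroup is fixing all. -/
theorem fix_all {T : Sylow 2 H} {W : Subgroup H} (h : Base (T : Subgroup H) W) {n z : H}
    (hn : n ∈ normalizer ((T : Subgroup H) : Set H)) (hz : z ∈ W) (hz1 : z ≠ 1)
    (hnz : n * z * n⁻¹ = z) {w : H} (hw : w ∈ W) : n * w * n⁻¹ = w := by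
  classical
  haveI := Fintype.ofFinite W
  have key : ∀ v ∈ W, v = 1 ∨ v = z ∨ v = w ∨ v = z * w ∨ w = 1 ∨ w = z := by
    intro v hv
    by_contra hc
    simp only [not_or] at hc
    obtain ⟨c1, c2, c3, c4, c5, c6⟩ := hc
    have hsub : ({1, ⟨z, hz⟩, ⟨w, hw⟩, ⟨z * w, mul_mem hz hw⟩, ⟨v, hv⟩} : Finset W).card ≤ 4 :=
      (Finset.card_le_univ _).trans (by rw [← Nat.card_eq_fintype_card, h.card_W])
    rw [Finset.card_insert_of_notMem, Finset.card_insert_of_notMem, Finset.card_insert_of_notMem,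
      Finset.card_pair] at hsub
    · omega
    · exact fun e => c4 (congrArg Subtype.val e).symm
    · simp only [Finset.mem_insert, Finset.mem_singleton, Subtype.ext_iff, not_or]
      exact ⟨fun e => hz1 (mul_eq_right.1 e.symm), Ne.symm c3⟩
    · simp only [Finset.mem_insert, Finset.mem_singleton, Subtype.ext_iff, not_or]
      exact ⟨Ne.symm c6, fun e => c5 (mul_eq_left.1 e.symm), Ne.symm c2⟩
    · simp only [Finset.mem_insert, Finset.mem_singleton, Subtype.ext_iff, not_or,
        OneMemClass.coe_one]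
      refine ⟨Ne.symm hz1, Ne.symm c5, fun e => c6 ?_, Ne.symm c1⟩
      rw [← inv_eq_of_mul_eq_one_right e.symm,
        inv_eq_of_mul_eq_one_right (h.exp_two z hz)]
  rcases key _ (h.involutions _ ((mem_normalizer_iff.1 hn w).1 (h.W_le hw)) (by
      rw [conj_mul, h.exp_two w hw]; group)) with e | e | e | e | e | e
  · rw [conj_eq_one_iff.1 e]; group
  · exact e.trans (by rw [← hnz] at e; exact (mul_left_cancel (mul_right_cancel e)).symm)
  · exact e
  · -- a transposition would come from a 2-element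
    exfalso
    obtain ⟨k, o, ho, hord⟩ := Nat.exists_eq_two_pow_mul_odd (orderOf_pos n).ne'
    obtain ⟨l, hl⟩ := ho
    have hsw : ∀ j : ℕ, n ^ (2 * j + 1) * w * (n ^ (2 * j + 1))⁻¹ = z * w := by
      intro j
      induction j with
      | zero => simpa using e
      | succ j ih =>
        calc n ^ (2 * (j + 1) + 1) * w * (n ^ (2 * (j + 1) + 1))⁻¹
            = n * (n * (n ^ (2 * j + 1) * w * (n ^ (2 * j + 1))⁻¹) * n⁻¹) * n⁻¹ := by
              rw [show 2 * (j + 1) + 1 = (2 * j + 1) + 1 + 1 by ring, pow_succ', pow_succ']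
              group
          _ = z * w := by
              rw [ih, show n * (z * w) * n⁻¹ = n * z * n⁻¹ * (n * w * n⁻¹) by group, hnz, e,
                ← mul_assoc z z w, h.exp_two z hz, one_mul, e]
    have hpow : (n ^ o) ^ 2 ^ k = 1 := by
      rw [← pow_mul, mul_comm, ← hord, pow_orderOf_eq_one]
    have hoS : n ^ o ∈ (T : Subgroup H) := CIT.UFour.mem_of_normalizer (pow_mem hn o) hpow
    have h' := hsw l
    rw [← hl, ← h.central w hw _ hoS, mul_inv_cancel_right] at h'
    exact hz1 (mul_eq_right.1 h'.symm)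
  · rw [e]; group
  · rw [e, hnz]

variable {W : Subgroup H} (T : Sylow 2 H)

theorem oddCore_quotient [W.Normal] (hc : W ≤ center H) (hW : Nat.card W = 4)
    (hO : Cfsg.oddCore H = ⊥) : Cfsg.oddCore (H ⧸ W) = ⊥ := by
  set K := Cfsg.oddCore (H ⧸ W) with hK
  set P := K.comap (QuotientGroup.mk' W) with hP
  haveI : P.Normal := Subgroup.Normal.comap inferInstance _
  have hWP : W ≤ P := by
    conv_lhs => rw [← QuotientGroup.ker_mk' W, ← MonoidHom.comap_bot]
    exact comap_mono bot_le
  have hcard : Nat.card P = Nat.card W * Nat.card K := Cores.card_comap_mk' W K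
  have hWPc : Nat.card (W.subgroupOf P) = 4 :=
    (Nat.card_congr (subgroupOfEquivOfLe hWP).toEquiv).trans hW
  have hidx : (W.subgroupOf P).index = Nat.card K := by
    have h1 := (W.subgroupOf P).card_mul_index
    rw [hWPc, hcard, hW] at h1
    omega
  have hodd : Odd (Nat.card K) := InvChar.Core.odd_card_oddCore
  obtain ⟨R, hR⟩ := Subgroup.exists_right_complement'_of_coprime (N := W.subgroupOf P) (by
    rw [hWPc, hidx]
    exact (hodd.coprime_two_right.pow_right 2).symm)
  have hRn : R.Normal := by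
    refine ⟨fun r hr g => ?_⟩
    obtain ⟨⟨⟨w, hw⟩, ⟨r', hr'⟩⟩, rfl, -⟩ := IsComplement.existsUnique hR g
    have hwc : ∀ x : P, w * x = x * w := fun x =>
      Subtype.ext (mem_center_iff.1 (hc (mem_subgroupOf.1 hw)) x).symm
    show w * r' * r * (w * r')⁻¹ ∈ R
    rw [show w * r' * r * (w * r')⁻¹ = w * (r' * r * r'⁻¹) * w⁻¹ by group, hwc,
      mul_inv_cancel_right]
    exact mul_mem (mul_mem hr' hr) (inv_mem hr')
  have hRc : Nat.card R = Nat.card K := by rw [← hR.symm.index_eq_card, hidx]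
  have h1 := InvChar.Core.le_oddCore hRn (hRc ▸ hodd)
  rw [InvChar.Core.oddCore_eq_bot_of_isSubnormal hO (Subgroup.Normal.isSubnormal inferInstance),
    le_bot_iff] at h1
  rw [h1, card_bot] at hRc
  exact card_eq_one.1 hRc.symm

open Blocks Blocks.Star Blocks.EightNine Cfsg.Agent.BlockCharsA.BrauerPairs
  Cfsg.Agent.BlockCharsA.PairPrincipal in
/-- With `W` central and no odd core the group is a 2-group, or `S : 5`. -/
theorem central_structure (h : Base (T : Subgroup H) W) (hc : W ≤ center H)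
    (hO : Cfsg.oddCore H = ⊥) :
    (T : Subgroup H) = ⊤ ∨ ((T : Subgroup H).Normal ∧ Nat.card H = 320 ∧
      ∀ y : H, y ∉ (T : Subgroup H) → ∀ s ∈ (T : Subgroup H), y * s * y⁻¹ * s⁻¹ ∈ W → s ∈ W) := by
  classical
  haveI : Fact (Nat.Prime 2) := ⟨Nat.prime_two⟩
  haveI hWn : W.Normal := ⟨fun x hx g => by
    rwa [mem_center_iff.1 (hc hx) g, mul_inv_cancel_right]⟩
  set π := QuotientGroup.mk' W with hπ
  have hπs : Function.Surjective π := QuotientGroup.mk'_surjective W
  set E : Sylow 2 (H ⧸ W) := T.mapSurjective hπs with hEdef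
  have hEc : (E : Subgroup (H ⧸ W)) = (T : Subgroup H).map π := Sylow.coe_mapSurjective ..
  have hEcomap : (E : Subgroup (H ⧸ W)).comap π = (T : Subgroup H) := by
    rw [hEc, comap_map_eq, hπ, QuotientGroup.ker_mk', sup_eq_left]
    exact h.W_le
  have hE16 : Nat.card (E : Subgroup (H ⧸ W)) = 16 := by
    have h1 := Cores.card_comap_mk' W (E : Subgroup (H ⧸ W))
    rw [← hπ, hEcomap, h.card_T, h.card_W] at h1
    omega
  have hπ1 : ∀ {x : H}, π x = 1 ↔ x ∈ W := fun {x} => QuotientGroup.eq_one_iff x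
  have hmemE : ∀ {x : H}, π x ∈ (E : Subgroup (H ⧸ W)) ↔ x ∈ (T : Subgroup H) := fun {x} => by
    rw [← mem_comap, hEcomap]
  have hEel : ∀ v ∈ (E : Subgroup (H ⧸ W)), v * v = 1 := fun v hv => by
    obtain ⟨x, rfl⟩ := hπs v
    rw [← map_mul, hπ1]
    exact h.sq x (hmemE.1 hv)
  have hab : ∀ x ∈ (E : Subgroup (H ⧸ W)), ∀ y ∈ (E : Subgroup (H ⧸ W)), x * y = y * x :=
    fun x hx y hy => by
      have hi : ∀ v ∈ (E : Subgroup (H ⧸ W)), v⁻¹ = v := fun v hv =>
        inv_eq_of_mul_eq_one_left (hEel v hv)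
      rw [← hi _ (mul_mem hx hy), mul_inv_rev, hi x hx, hi y hy]
  have hliftN : ∀ {g : H}, π g ∈ normalizer ((E : Subgroup (H ⧸ W)) : Set (H ⧸ W)) →
      g ∈ normalizer ((T : Subgroup H) : Set H) := fun {g} hg => mem_normalizer_iff.2 fun x => by
    rw [← hmemE, ← hmemE, map_mul, map_mul, map_inv]
    exact mem_normalizer_iff.1 hg _
  obtain ⟨M, hM⟩ := CentFour.exists_modular_two
  set e := (centralizer ((E : Subgroup (H ⧸ W)) : Set (H ⧸ W))).relIndex
    (normalizer ((E : Subgroup (H ⧸ W)) : Set (H ⧸ W))) with hedef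
  have heodd : ¬ 2 ∣ e := by
    have := FreeTwo.odd_inertR hM E hab
    rwa [FreeTwo.card_inertR_prin hM, ← hedef] at this
  set φ := normalizerMonoidHom (E : Subgroup (H ⧸ W)) with hφ
  set B := φ.range with hB
  have hBcard : Nat.card B = e := by
    rw [hB, ← Subgroup.index_ker, hφ, normalizerMonoidHom_ker]
    rfl
  -- an element of odd order fixing a coset outside `W` acts trivially
  have hfree : ∀ t ∈ normalizer ((E : Subgroup (H ⧸ W)) : Set (H ⧸ W)),
      ∀ v ∈ (E : Subgroup (H ⧸ W)), v ≠ 1 → t * v * t⁻¹ = v →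
        t ∈ centralizer ((E : Subgroup (H ⧸ W)) : Set (H ⧸ W)) := by
    intro t ht v hv hv1 htv
    -- reduce to elements of odd order
    obtain ⟨a, m, hm, hord⟩ := Nat.exists_eq_two_pow_mul_odd (n := orderOf t) (orderOf_pos _).ne'
    suffices hk : t ^ 2 ^ a ∈ centralizer ((E : Subgroup (H ⧸ W)) : Set (H ⧸ W)) by
      have h1 : φ ⟨t, ht⟩ ^ 2 ^ a = 1 := by
        rw [← map_pow]
        show (⟨t, ht⟩ ^ 2 ^ a : normalizer ((E : Subgroup (H ⧸ W)) : Set (H ⧸ W))) ∈ φ.ker
        rw [hφ, normalizerMonoidHom_ker, mem_subgroupOf, SubgroupClass.coe_pow]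
        exact hk
      have h2 : orderOf (⟨φ ⟨t, ht⟩, ⟨_, rfl⟩⟩ : B) ∣ 2 ^ a :=
        orderOf_dvd_of_pow_eq_one (Subtype.ext (by rw [SubgroupClass.coe_pow]; exact h1))
      have h3 : orderOf (⟨φ ⟨t, ht⟩, ⟨_, rfl⟩⟩ : B) = 1 :=
        Nat.eq_one_of_dvd_coprimes ((Nat.prime_two.coprime_iff_not_dvd.2 heodd).pow_left a) h2
          (hBcard ▸ orderOf_dvd_natCard _)
      rw [orderOf_eq_one_iff, Subtype.ext_iff] at h3
      have h4 : (⟨t, ht⟩ : normalizer ((E : Subgroup (H ⧸ W)) : Set (H ⧸ W))) ∈ φ.ker := h3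
      rw [hφ, normalizerMonoidHom_ker, mem_subgroupOf] at h4
      exact h4
    set k := t ^ 2 ^ a with hk'
    have hkN : k ∈ normalizer ((E : Subgroup (H ⧸ W)) : Set (H ⧸ W)) := pow_mem ht _
    have hkodd : Odd (orderOf k) := by
      refine hm.of_dvd_nat (orderOf_dvd_of_pow_eq_one ?_)
      rw [hk', ← pow_mul, ← hord, pow_orderOf_eq_one]
    have hkv : k * v * k⁻¹ = v := by
      have hct : Commute t v := mul_inv_eq_iff_eq_mul.1 htv
      rw [hk', (hct.pow_left _).eq, mul_inv_cancel_right]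
    let d : (E : Subgroup (H ⧸ W)) →* (E : Subgroup (H ⧸ W)) :=
      { toFun := fun u => ⟨(u : H ⧸ W)⁻¹ * (k * u * k⁻¹),
          mul_mem (inv_mem u.2) ((mem_normalizer_iff.1 hkN _).1 u.2)⟩
        map_one' := Subtype.ext (by simp)
        map_mul' := fun x y => Subtype.ext (by
          show ((x : H ⧸ W) * y)⁻¹ * (k * (x * y) * k⁻¹) =
            (x : H ⧸ W)⁻¹ * (k * x * k⁻¹) * ((y : H ⧸ W)⁻¹ * (k * y * k⁻¹))
          have hx' := mul_mem (inv_mem x.2) ((mem_normalizer_iff.1 hkN _).1 x.2)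
          rw [show ((x : H ⧸ W) * y)⁻¹ * (k * (x * y) * k⁻¹) =
            (y : H ⧸ W)⁻¹ * ((x : H ⧸ W)⁻¹ * (k * x * k⁻¹)) * (k * y * k⁻¹) by group,
            hab _ (inv_mem y.2) _ hx', mul_assoc]) }
    -- images are never fixed
    have hfix : ∀ u : (E : Subgroup (H ⧸ W)), k * (d u : H ⧸ W) * k⁻¹ = d u → d u = 1 := by
      intro u hu
      have hiter : ∀ n : ℕ, k ^ n * (u : H ⧸ W) * (k ^ n)⁻¹ = u * (d u : H ⧸ W) ^ n := by
        intro n
        induction n with
        | zero => simp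
        | succ n ih =>
          rw [pow_succ', show k * k ^ n * (u : H ⧸ W) * (k * k ^ n)⁻¹ =
            k * (k ^ n * (u : H ⧸ W) * (k ^ n)⁻¹) * k⁻¹ by group, ih, ← conj_mul, ← conj_pow, hu,
            show k * (u : H ⧸ W) * k⁻¹ = u * (d u : H ⧸ W) from (mul_inv_cancel_left _ _).symm,
            mul_assoc, ← pow_succ']
      have h1 := hiter (orderOf k)
      rw [pow_orderOf_eq_one, one_mul, inv_one, mul_one] at h1
      obtain ⟨j, hj⟩ := hkodd
      have h2 : (d u : H ⧸ W) ^ orderOf k = 1 := mul_eq_left.1 h1.symm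
      rw [hj, pow_succ, pow_mul, pow_two, hEel _ (d u).2, one_pow, one_mul] at h2
      exact Subtype.ext h2
    obtain ⟨s, rfl⟩ := hπs v
    obtain ⟨g, hg⟩ := hπs k
    have hsT := hmemE.1 hv
    have hsW : s ∉ W := fun hs => hv1 (hπ1.2 hs)
    have hgN := hliftN (hg ▸ hkN)
    set R := (T : Subgroup H) ⊓ centralizer ({s} : Set H) with hR
    have hRle : ∀ u : (E : Subgroup (H ⧸ W)), (d u : H ⧸ W) ∈ R.map π := by
      intro u
      obtain ⟨x, hx⟩ := hπs u
      have hxT : x ∈ (T : Subgroup H) := hmemE.1 (hx ▸ u.2)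
      have hgx : g * x * g⁻¹ ∈ (T : Subgroup H) := (mem_normalizer_iff.1 hgN x).1 hxT
      have hgs : g * s * g⁻¹ * s⁻¹ ∈ W := hπ1.1 (by
        rw [map_mul, map_mul, map_mul, map_inv, map_inv, hg, hkv, mul_inv_cancel])
      have hgcen : ∀ y ∈ W, y * g = g * y := fun y hy => (mem_center_iff.1 (hc hy) g).symm
      have h1 : g * x * g⁻¹ * s * (g * x * g⁻¹)⁻¹ * s⁻¹ = x * s * x⁻¹ * s⁻¹ := by
        set w := g * s * g⁻¹ * s⁻¹ with hw
        have hww := mem_center_iff.1 (hc hgs) (g * x * g⁻¹)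
        have hgs' : g * s * g⁻¹ = w * s := by rw [hw]; group
        calc g * x * g⁻¹ * s * (g * x * g⁻¹)⁻¹ * s⁻¹
            = w⁻¹ * (g * x * g⁻¹ * (w * s) * (g * x * g⁻¹)⁻¹) * s⁻¹ := by
              rw [show g * x * g⁻¹ * (w * s) = w * (g * x * g⁻¹ * s) by
                rw [← mul_assoc, hww, mul_assoc]]
              group
          _ = w⁻¹ * (g * (x * s * x⁻¹ * s⁻¹) * g⁻¹) * (g * s * g⁻¹ * s⁻¹) := by
              rw [← hgs']; group
          _ = x * s * x⁻¹ * s⁻¹ := by
              rw [← hgcen _ (h.comm_mem hsT hxT), mul_inv_cancel_right, ← hw,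
                mul_assoc, mem_center_iff.1 (hc hgs) _, inv_mul_cancel_left]
      refine ⟨x⁻¹ * (g * x * g⁻¹), mem_inf.2 ⟨mul_mem (inv_mem hxT) hgx,
        mem_centralizer_singleton_iff.2 (mul_inv_eq_iff_eq_mul.1 (mul_inv_eq_one.1 ?_))⟩, ?_⟩
      · rw [h.comm_mul hsT (inv_mem hxT) hgx, h1, ← h.comm_mul hsT (inv_mem hxT) hxT,
          inv_mul_cancel]
        group
      · show π (x⁻¹ * (g * x * g⁻¹)) = (u : H ⧸ W)⁻¹ * (k * u * k⁻¹)
        simp only [map_mul, map_inv, hg, hx]
    have hR4 : Nat.card (R.map π) = 4 := by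
      have hWR : W ≤ R := fun w hw => ⟨h.W_le hw,
        mem_centralizer_singleton_iff.2 (h.central w hw s hsT)⟩
      have h1 := Cores.card_comap_mk' W (R.map π)
      rw [← hπ, comap_map_eq, hπ, QuotientGroup.ker_mk', sup_eq_left.2 hWR,
        h.card_centralizer hsT hsW, h.card_W] at h1
      rw [hπ]
      omega
    have hsR : π s ∈ R.map π := ⟨s, ⟨hsT, mem_centralizer_singleton_iff.2 rfl⟩, rfl⟩
    set D := d.range.map (E : Subgroup (H ⧸ W)).subtype with hD
    have hDle : D ≤ R.map π := by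
      rintro _ ⟨_, ⟨u, rfl⟩, rfl⟩
      exact hRle u
    have hsD : π s ∉ D := by
      rintro ⟨_, ⟨u, rfl⟩, hu⟩
      have hu' : (d u : H ⧸ W) = π s := hu
      have h1 := hfix u (by rw [hu', hkv])
      rw [h1, OneMemClass.coe_one] at hu'
      exact hv1 hu'.symm
    have hD2 : Nat.card D ≤ 2 := by
      have h1 : Nat.card D ∣ 4 := hR4 ▸ card_dvd_of_le hDle
      have h2 : Nat.card D ≠ 4 := fun e4 => hsD ((eq_of_le_of_card_ge hDle (by omega)) ▸ hsR)
      have h3 := Nat.le_of_dvd (by norm_num) h1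
      interval_cases (Nat.card D) <;> omega
    have hall : ∀ u, d u = 1 := by
      intro u
      refine hfix u ?_
      by_contra hne
      have hmem : k * (d u : H ⧸ W) * k⁻¹ ∈ D := by
        refine ⟨d ⟨k * u * k⁻¹, (mem_normalizer_iff.1 hkN _).1 u.2⟩, ⟨_, rfl⟩, ?_⟩
        show (k * (u : H ⧸ W) * k⁻¹)⁻¹ * (k * (k * u * k⁻¹) * k⁻¹) =
          k * ((u : H ⧸ W)⁻¹ * (k * u * k⁻¹)) * k⁻¹
        group
      have hd1 : (d u : H ⧸ W) ≠ 1 := fun e1 => hne (by rw [e1]; group)
      haveI := Fintype.ofFinite D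
      have hsub : ({1, ⟨_, ⟨d u, ⟨u, rfl⟩, rfl⟩⟩, ⟨_, hmem⟩} : Finset D).card ≤ 2 :=
        (Finset.card_le_univ _).trans (by rw [← Nat.card_eq_fintype_card]; exact hD2)
      rw [Finset.card_insert_of_notMem, Finset.card_pair] at hsub
      · omega
      · exact fun e1 => hne (congrArg Subtype.val e1).symm
      · simp only [Finset.mem_insert, Finset.mem_singleton, Subtype.ext_iff, not_or,
          OneMemClass.coe_one]
        exact ⟨Ne.symm hd1, fun e1 => hd1 (conj_eq_one_iff.1 e1.symm)⟩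
    intro u hu
    have h1 : u⁻¹ * (k * u * k⁻¹) = 1 := congrArg Subtype.val (hall ⟨u, hu⟩)
    exact (mul_inv_eq_iff_eq_mul.1 (inv_mul_eq_one.1 h1).symm).symm
  -- the automiser has order one or five
  have hB1 : ∀ β : B, ∀ v : (E : Subgroup (H ⧸ W)), v ≠ 1 → (β : MulAut _) v = v → β = 1 := by
    rintro ⟨_, ⟨t, ht⟩, rfl⟩ v hv he
    refine Subtype.ext ?_
    show (⟨t, ht⟩ : normalizer ((E : Subgroup (H ⧸ W)) : Set (H ⧸ W))) ∈ φ.ker
    rw [hφ, normalizerMonoidHom_ker, mem_subgroupOf]
    exact hfree t ht v v.2 (fun e1 => hv (Subtype.ext e1)) (congrArg Subtype.val he)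
  letI : MulAction B {v : (E : Subgroup (H ⧸ W)) // v ≠ 1} :=
    { smul := fun β v => ⟨(β : MulAut _) v.1, fun e1 => v.2 ((β : MulAut _).map_eq_one_iff.1 e1)⟩
      one_smul := fun _ => rfl
      mul_smul := fun _ _ _ => rfl }
  have hdvd : e ∣ 15 := by
    haveI := Fintype.ofFinite (E : Subgroup (H ⧸ W))
    have hst : ∀ v : {v : (E : Subgroup (H ⧸ W)) // v ≠ 1}, MulAction.stabilizer B v = ⊥ := fun v =>
      eq_bot_iff.2 fun β hβ => mem_bot.2 (hB1 β v.1 v.2 (congrArg Subtype.val hβ))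
    have h1 := Nat.card_congr (MulAction.selfEquivOrbitsQuotientProd hst)
    rw [Nat.card_prod, hBcard] at h1
    have h2 : Nat.card {v : (E : Subgroup (H ⧸ W)) // v ≠ 1} = 15 := by
      rw [Nat.card_eq_fintype_card, Fintype.card_subtype_compl, Fintype.card_subtype_eq,
        ← Nat.card_eq_fintype_card, hE16]
    exact h2 ▸ ⟨_, h1.trans (mul_comm _ _)⟩
  have he3 : ¬ 3 ∣ e := by
    intro h3
    haveI : Fact (Nat.Prime 3) := ⟨Nat.prime_three⟩
    obtain ⟨⟨_, ⟨t, ht⟩, rfl⟩, hβ⟩ := exists_prime_orderOf_dvd_card' (G := B) 3 (hBcard.symm ▸ h3)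
    obtain ⟨g, rfl⟩ := hπs t
    have hgN := hliftN ht
    obtain ⟨a, m, hm, hord⟩ := Nat.exists_eq_two_pow_mul_odd (n := orderOf g) (orderOf_pos _).ne'
    -- an element of odd order with the same property
    set k := g ^ 2 ^ a with hk
    have hkN : k ∈ normalizer ((T : Subgroup H) : Set H) := pow_mem hgN _
    have hkm : k ^ m = 1 := by rw [hk, ← pow_mul, ← hord, pow_orderOf_eq_one]
    have hnc : π k ∉ centralizer ((E : Subgroup (H ⧸ W)) : Set (H ⧸ W)) := by
      intro hkc
      have h1 : φ ⟨π g, ht⟩ ^ 2 ^ a = 1 := by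
        rw [← map_pow]
        show (⟨π g, ht⟩ ^ 2 ^ a : normalizer ((E : Subgroup (H ⧸ W)) : Set (H ⧸ W))) ∈ φ.ker
        rw [hφ, normalizerMonoidHom_ker, mem_subgroupOf, SubgroupClass.coe_pow, ← map_pow]
        exact hkc
      have h2 := orderOf_dvd_of_pow_eq_one
        (x := (⟨φ ⟨π g, ht⟩, ⟨_, rfl⟩⟩ : B)) (n := 2 ^ a)
        (Subtype.ext (by rw [SubgroupClass.coe_pow]; exact h1))
      rw [hβ] at h2
      exact absurd (Nat.prime_three.dvd_of_dvd_pow h2) (by norm_num)
    have hk3 : π k ^ 3 ∈ centralizer ((E : Subgroup (H ⧸ W)) : Set (H ⧸ W)) := by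
      have h1 : (φ ⟨π g, ht⟩) ^ 3 = 1 := by
        have := pow_orderOf_eq_one (⟨φ ⟨π g, ht⟩, ⟨_, rfl⟩⟩ : B)
        rw [hβ] at this
        simpa using congrArg Subtype.val this
      have h2 : (⟨π g, ht⟩ : normalizer ((E : Subgroup (H ⧸ W)) : Set (H ⧸ W))) ^ 3 ∈ φ.ker := by
        rw [MonoidHom.mem_ker, map_pow]; exact h1
      rw [hφ, normalizerMonoidHom_ker, mem_subgroupOf, SubgroupClass.coe_pow] at h2
      rw [hk, map_pow, ← pow_mul, mul_comm, pow_mul]
      exact pow_mem h2 _
    have hc3 : ∀ u ∈ (T : Subgroup H), k ^ 3 * u * (k ^ 3)⁻¹ = u := by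
      intro u hu
      set w := u⁻¹ * (k ^ 3 * u * (k ^ 3)⁻¹) with hw
      have hwW : w ∈ W := hπ1.1 (by
        rw [hw, map_mul, map_mul, map_mul, map_inv, map_inv, map_pow,
          ← hk3 _ (hmemE.2 hu), mul_inv_cancel_right, inv_mul_cancel])
      have hiter : ∀ n : ℕ, (k ^ 3) ^ n * u * ((k ^ 3) ^ n)⁻¹ = u * w ^ n := by
        intro n
        induction n with
        | zero => simp
        | succ n ih =>
          rw [pow_succ', show k ^ 3 * (k ^ 3) ^ n * u * (k ^ 3 * (k ^ 3) ^ n)⁻¹ =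
            k ^ 3 * ((k ^ 3) ^ n * u * ((k ^ 3) ^ n)⁻¹) * (k ^ 3)⁻¹ by group, ih,
            ← mul_assoc (k ^ 3) u, mul_assoc (k ^ 3 * u),
            ← (mem_center_iff.1 (pow_mem (hc hwW) n) (k ^ 3)⁻¹ :),
            show k ^ 3 * u * ((k ^ 3)⁻¹ * w ^ n) = (k ^ 3 * u * (k ^ 3)⁻¹) * w ^ n by group,
            show k ^ 3 * u * (k ^ 3)⁻¹ = u * w by rw [hw, mul_inv_cancel_left], mul_assoc,
            ← pow_succ']
      have h1 := hiter m
      rw [← pow_mul, mul_comm, pow_mul, hkm, one_pow, one_mul, inv_one, mul_one] at h1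
      obtain ⟨j, hj⟩ := hm
      have h2 : w ^ m = 1 := mul_eq_left.1 h1.symm
      rw [hj, pow_succ, pow_mul, pow_two, h.exp_two w hwW, one_pow, one_mul] at h2
      rw [hw, inv_mul_eq_one] at h2
      exact h2.symm
    obtain ⟨z, hz⟩ : ∃ z : W, z ≠ 1 := by
      haveI : Nontrivial W := Finite.one_lt_card_iff_nontrivial.1 (by rw [h.card_W]; norm_num)
      exact exists_ne 1
    have hz1 : (z : H) ≠ 1 := fun e1 => hz (Subtype.ext e1)
    set X := {u : (T : Subgroup H) // (u : H) * u = z}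
    have hsqconj : ∀ (c : H) (u : H), u * u = z → c * u * c⁻¹ * (c * u * c⁻¹) = z := fun c u hu => by
      rw [conj_mul, hu, mem_center_iff.1 (hc z.2) c, mul_inv_cancel_right]
    let σ : Equiv.Perm X :=
      { toFun := fun u => ⟨⟨k * u.1 * k⁻¹, (mem_normalizer_iff.1 hkN _).1 u.1.2⟩,
          hsqconj k _ u.2⟩
        invFun := fun u => ⟨⟨k⁻¹ * u.1 * k⁻¹⁻¹,
          (mem_normalizer_iff.1 (inv_mem hkN) _).1 u.1.2⟩, hsqconj k⁻¹ _ u.2⟩
        left_inv := fun u => Subtype.ext (Subtype.ext (by group))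
        right_inv := fun u => Subtype.ext (Subtype.ext (by group)) }
    have hσ3 : σ ^ 3 ^ 1 = 1 := Equiv.ext fun u => Subtype.ext (Subtype.ext (by
      show k * (k * (k * (u.1 : H) * k⁻¹) * k⁻¹) * k⁻¹ = _
      rw [show k * (k * (k * (u.1 : H) * k⁻¹) * k⁻¹) * k⁻¹ = k ^ 3 * u.1 * (k ^ 3)⁻¹ by
        rw [pow_succ, pow_two]; group]
      exact hc3 _ u.1.2))
    haveI := Fintype.ofFinite X
    obtain ⟨u, hu⟩ := Equiv.Perm.exists_fixed_point_of_prime (p := 3) (σ := σ)
      (by rw [← Nat.card_eq_fintype_card, h.card_roots z.2 hz1]; norm_num) hσ3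
    have hu' : k * (u.1 : H) * k⁻¹ = u.1 := congrArg (fun x : X => (x.1 : H)) hu
    refine hnc (hfree _ ?_ (π u.1) (hmemE.2 u.1.2) (fun e1 => hz1 ?_) ?_)
    · rw [hk, map_pow]; exact pow_mem ht _
    · rw [← u.2, h.exp_two _ (hπ1.1 e1)]
    · rw [← map_inv, ← map_mul, ← map_mul, hu']
  have he15 : e = 1 ∨ e = 5 := by
    have hpos := Nat.le_of_dvd (by norm_num) hdvd
    interval_cases e <;> omega
  have hOQ : Cfsg.oddCore (H ⧸ W) = ⊥ := oddCore_quotient hc h.card_W hO
  -- a normal subgroup with Sylow subgroup `E` central in its normaliser is `E`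
  have hburn : ∀ (K : Subgroup (H ⧸ W)) [K.Normal], (E : Subgroup (H ⧸ W)) ≤ K →
      (∀ t ∈ K, t ∈ normalizer ((E : Subgroup (H ⧸ W)) : Set (H ⧸ W)) →
        t ∈ centralizer ((E : Subgroup (H ⧸ W)) : Set (H ⧸ W))) →
      K = (E : Subgroup (H ⧸ W)) := by
    intro K _ hEK hNC
    set P := E.subtype hEK with hP
    have hPc : ∀ x : K, x ∈ (P : Subgroup K) ↔ (x : H ⧸ W) ∈ (E : Subgroup (H ⧸ W)) := fun _ => Iff.rfl
    have hle : normalizer ((P : Subgroup K) : Set K) ≤ centralizer ((P : Subgroup K) : Set K) := by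
      intro x hx y hy
      refine Subtype.ext (hNC x x.2 ?_ _ ((hPc y).1 hy))
      refine mem_normalizer_iff.2 fun v => ⟨fun hv => ?_, fun hv => ?_⟩
      · exact (hPc _).1 ((mem_normalizer_iff.1 hx ⟨v, hEK hv⟩).1 ((hPc _).2 hv))
      · have hvK : v ∈ K := by
          have := mul_mem (mul_mem (inv_mem x.2) (hEK hv)) x.2
          simpa [mul_assoc] using this
        exact (hPc _).1 ((mem_normalizer_iff.1 hx ⟨v, hvK⟩).2 ((hPc _).2 hv))
    have hcompl := MonoidHom.ker_transferSylow_isComplement' P hle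
    have hodd : Odd (Nat.card (MonoidHom.transferSylow P hle).ker) := by
      rw [← hcompl.index_eq_card]
      exact Nat.not_even_iff_odd.1 fun he => P.not_dvd_index (even_iff_two_dvd.1 he)
    have h1 := InvChar.Core.le_oddCore (MonoidHom.normal_ker (MonoidHom.transferSylow P hle)) hodd
    rw [InvChar.Core.oddCore_eq_bot_of_isSubnormal hOQ (Subgroup.Normal.isSubnormal inferInstance),
      le_bot_iff] at h1
    have hcard := hcompl.card_mul_card
    rw [h1, card_bot, one_mul] at hcard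
    refine le_antisymm (fun x hx => ?_) hEK
    have : (P : Subgroup K) = ⊤ := eq_top_of_card_eq _ hcard
    exact (hPc ⟨x, hx⟩).1 (this ▸ mem_top _)
  rcases he15 with he | he
  · left
    have htop := hburn ⊤ le_top fun t _ ht => by
      rw [hedef, relIndex_eq_one] at he
      exact he ht
    rw [← hEcomap, ← htop, comap_top]
  right
  have hE1 : (E : Subgroup (H ⧸ W)) ≠ ⊥ := fun e1 => by rw [e1, card_bot] at hE16; omega
  have hfrees : Frees (E : Subgroup (H ⧸ W)) (prin M (E : Subgroup (H ⧸ W))) := by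
    intro t ht v hv hv1 htv
    rw [stab_prin hM] at ht
    exact hfree t ht v hv hv1 htv
  have hsol : Group.IsSolvable (H ⧸ W) := by
    by_contra hns
    have := (FreeTwo.free_prime hM E hab hE1 hfrees (by norm_num : Nat.Prime 5)
      (by rw [FreeTwo.card_inertR_prin hM, ← hedef, he])).2 hns
    omega
  -- a normal 2-subgroup
  obtain ⟨R, hRn, hR1, hRE⟩ : ∃ R : Subgroup (H ⧸ W), R.Normal ∧ R ≠ ⊥ ∧
      R ≤ (E : Subgroup (H ⧸ W)) := by
    haveI : Nontrivial (H ⧸ W) := by
      by_contra hnt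
      rw [not_nontrivial_iff_subsingleton] at hnt
      exact hE1 (Subsingleton.elim _ _)
    obtain ⟨n, hn⟩ := hsol.solvable
    have hex : ∃ A : Subgroup (H ⧸ W), A.Normal ∧ A ≠ ⊥ ∧ ∀ a ∈ A, ∀ b ∈ A, a * b = b * a := by
      induction n with
      | zero => exact absurd hn top_ne_bot
      | succ n ih =>
        by_cases h0 : derivedSeries (H ⧸ W) n = ⊥
        · exact ih h0
        · refine ⟨_, derivedSeries_normal _ n, h0, fun a ha b hb => ?_⟩
          rw [derivedSeries_succ, eq_bot_iff] at hn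
          have := hn (commutator_mem_commutator ha hb)
          rw [mem_bot, commutatorElement_eq_one_iff_mul_comm] at this
          exact this
    obtain ⟨A, hAn, hA1, hAab⟩ := hex
    obtain ⟨⟨a, ha⟩, hord⟩ : ∃ a : A, orderOf a = 2 := by
      refine exists_prime_orderOf_dvd_card' 2 ?_
      by_contra h2
      have := InvChar.Core.le_oddCore hAn (Nat.not_even_iff_odd.1 fun he =>
        h2 (even_iff_two_dvd.1 he))
      rw [hOQ, le_bot_iff] at this
      exact hA1 this
    let R : Subgroup (H ⧸ W) :=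
      { carrier := {x | x ∈ A ∧ x * x = 1}
        one_mem' := ⟨one_mem _, one_mul 1⟩
        mul_mem' := fun {x y} hx hy => ⟨mul_mem hx.1 hy.1, by
          rw [mul_assoc, ← mul_assoc y, ← hAab x hx.1 y hy.1, mul_assoc, hy.2, mul_one, hx.2]⟩
        inv_mem' := fun {x} hx => ⟨inv_mem hx.1, by rw [← mul_inv_rev, hx.2, inv_one]⟩ }
    have hRn : R.Normal := ⟨fun x hx g => ⟨hAn.conj_mem x hx.1 g, by
      rw [conj_mul, hx.2]; group⟩⟩
    rw [Subgroup.orderOf_mk] at hord
    refine ⟨R, hRn, fun e1 => ?_, ?_⟩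
    · have : a ∈ R := ⟨ha, by rw [← pow_two, ← hord, pow_orderOf_eq_one]⟩
      rw [e1, mem_bot] at this
      rw [this, orderOf_one] at hord
      omega
    · haveI := hRn
      have hp : IsPGroup 2 R := fun x => ⟨1, Subtype.ext (by
        show (x : H ⧸ W) ^ 2 ^ 1 = 1
        rw [pow_one, pow_two]; exact x.2.2)⟩
      exact IsPGroup.le_sylow_of_normal hp E
  haveI := hRn
  haveI : (centralizer (R : Set (H ⧸ W))).Normal := inferInstance
  have hCR := hburn (centralizer (R : Set (H ⧸ W)))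
    (fun x hx r hr => hab r (hRE hr) x hx) fun t htK ht => by
    obtain ⟨r, hr, hr1⟩ := (ne_bot_iff_exists_ne_one.1 hR1 |> fun ⟨r, hr⟩ =>
      (⟨r.1, r.2, fun e1 => hr (Subtype.ext e1)⟩ : ∃ r, r ∈ R ∧ r ≠ 1))
    exact hfree t ht r (hRE hr) hr1 (by rw [← htK r hr, mul_inv_cancel_right])
  haveI hEn : (E : Subgroup (H ⧸ W)).Normal := by rw [← hCR]; infer_instance
  have hNtop : normalizer ((E : Subgroup (H ⧸ W)) : Set (H ⧸ W)) = ⊤ := normalizer_eq_top_iff.2 hEn
  have hCE : centralizer ((E : Subgroup (H ⧸ W)) : Set (H ⧸ W)) = (E : Subgroup (H ⧸ W)) :=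
    hburn _ (fun x hx y hy => hab y hy x hx) fun t ht _ => ht
  have hcardQ : Nat.card (H ⧸ W) = 80 := by
    rw [← (centralizer ((E : Subgroup (H ⧸ W)) : Set (H ⧸ W))).card_mul_index,
      ← relIndex_top_right, ← hNtop, ← hedef, he, hCE, hE16]
  have hcard : Nat.card H = 320 := by
    rw [Subgroup.card_eq_card_quotient_mul_card_subgroup W, hcardQ, h.card_W]
  refine ⟨?_, hcard, ?_⟩
  · rw [← hEcomap]
    exact hEn.comap π
  intro y hy s hs hys
  by_contra hsW
  have hmem := hfree (π y) (by rw [hNtop]; exact mem_top _) (π s) (hmemE.2 hs)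
    (fun e1 => hsW (hπ1.1 e1))
    (by rw [← mul_inv_eq_one]; simp only [← map_inv, ← map_mul]; exact hπ1.2 hys)
  rw [hCE, hmemE] at hmem
  exact hy hmem

end Cfsg.Agent.UFourType
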