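import Cfsg.Agent.Lib.CIT.UFourModel
import Cfsg.Agent.Lib.Transfer.NormalPComplement
import Cfsg.Agent.Lib.SolvableSignalizer.Connected
import Cfsg.Agent.Lib.UFourType.Quotient
import Cfsg.Agent.Lib.UFourRows.Setup

/-!
# Local structure of a simple group with a Sylow 2-subgroup of type `U₃(4)`

For every involution `z` the group `C(z)/O(C(z))` is `S : 5`, with one global element `y`.
-/

set_option autoImplicit false
set_option linter.style.haveILetI false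
set_option linter.unusedSectionVars false

namespace Cfsg.Agent.UFourType

open Subgroup
open scoped Pointwise

universe u

variable {G : Type u} [Group G] [Finite G]

/-- `C(z)`. -/
abbrev cen (z : G) : Subgroup G := centralizer ({z} : Set G)

/-- `O(C(z))`, as a subgroup of the group. -/
abbrev core (z : G) : Subgroup G := Cfsg.centralizerPPrimeCore 2 z

/-- The map to `C(z)/O(C(z))`. -/
abbrev proj (z : G) : cen z →* cen z ⧸ Cfsg.oddCore (cen z) :=
  QuotientGroup.mk' (Cfsg.oddCore (cen z))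

theorem mem_core {z x : G} : x ∈ core z ↔ ∃ hx : x ∈ cen z, proj z ⟨x, hx⟩ = 1 := by
  constructor
  · rintro ⟨a, ha, rfl⟩
    exact ⟨a.2, (QuotientGroup.eq_one_iff _).2 ha⟩
  · rintro ⟨hx, h1⟩
    exact ⟨⟨x, hx⟩, (QuotientGroup.eq_one_iff _).1 h1, rfl⟩

theorem core_le (z : G) : core z ≤ cen z := map_subtype_le _

theorem core_odd (z : G) : Odd (Nat.card (core z)) := by
  rw [show core z = (Cfsg.oddCore (cen z)).map (cen z).subtype from rfl,
    card_map_of_injective (cen z).subtype_injective]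
  exact InvChar.Core.odd_card_oddCore

theorem core_normal (z : G) : cen z ≤ normalizer (core z : Set G) := fun c hc => by
  refine mem_normalizer_fintype ?_
  rintro _ ⟨a, ha, rfl⟩
  exact ⟨⟨c, hc⟩ * a * ⟨c, hc⟩⁻¹, (inferInstance : (Cfsg.oddCore (cen z)).Normal).conj_mem a ha _,
    rfl⟩

/-- The elements of `N(S)` acting trivially on `S/Z`. -/
def actsTriv (S : Sylow 2 G) (Z : Subgroup G) (h : CIT.UFourSylow S Z) : Subgroup G where
  carrier := {c | c ∈ normalizer ((S : Subgroup G) : Set G) ∧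
    ∀ s ∈ (S : Subgroup G), c * s * c⁻¹ * s⁻¹ ∈ Z}
  one_mem' := ⟨one_mem _, fun s _ => by simp⟩
  mul_mem' := fun {c d} hc hd => ⟨mul_mem hc.1 hd.1, fun s hs => by
    have h1 := hd.2 s hs
    have h2 : c * (d * s * d⁻¹ * s⁻¹) * c⁻¹ ∈ Z := h.involutions _
      ((mem_normalizer_iff.1 hc.1 _).1 (h.Z_le h1))
      (by rw [conj_mul, CIT.UFour.mul_self_eq_one h h1]; group)
    rw [show c * d * s * (c * d)⁻¹ * s⁻¹ = c * (d * s * d⁻¹ * s⁻¹) * c⁻¹ * (c * s * c⁻¹ * s⁻¹) by group]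
    exact mul_mem h2 (hc.2 s hs)⟩
  inv_mem' := fun {c} hc => ⟨inv_mem hc.1, fun s hs => by
    have hs' : c⁻¹ * s * c ∈ (S : Subgroup G) := (mem_normalizer_iff''.1 hc.1 s).1 hs
    have h1 := inv_mem (hc.2 _ hs')
    rw [show (c * (c⁻¹ * s * c) * c⁻¹ * (c⁻¹ * s * c)⁻¹)⁻¹ = c⁻¹ * s * c⁻¹⁻¹ * s⁻¹ by group] at h1
    exact h1⟩

variable {S : Sylow 2 G} {Z : Subgroup G} (h : CIT.UFourSylow S Z)

include h in
theorem conj_mem_Z {n z : G} (hn : n ∈ normalizer ((S : Subgroup G) : Set G)) (hz : z ∈ Z) :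
    n * z * n⁻¹ ∈ Z :=
  h.involutions _ ((mem_normalizer_iff.1 hn z).1 (h.Z_le hz))
    (by rw [conj_mul, CIT.UFour.mul_self_eq_one h hz]; group)

theorem conj_mem_actsTriv {n c : G} (hn : n ∈ normalizer ((S : Subgroup G) : Set G))
    (hc : c ∈ actsTriv S Z h) : n * c * n⁻¹ ∈ actsTriv S Z h :=
  ⟨mul_mem (mul_mem hn hc.1) (inv_mem hn), fun s hs => by
    have hs' : n⁻¹ * s * n ∈ (S : Subgroup G) := (mem_normalizer_iff''.1 hn s).1 hs
    have h1 := conj_mem_Z h hn (hc.2 _ hs')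
    rwa [show n * (c * (n⁻¹ * s * n) * c⁻¹ * (n⁻¹ * s * n)⁻¹) * n⁻¹ =
      n * c * n⁻¹ * s * (n * c * n⁻¹)⁻¹ * s⁻¹ by group] at h1⟩

include h in
theorem base_S : Base (S : Subgroup G) Z :=
  ⟨h.Z_le, h.card_S, h.card_Z, fun _ hz => CIT.UFour.mul_self_eq_one h hz, h.central, h.involutions,
    h.sq, h.conj_full⟩

include h in
theorem exists_outside : ∃ s ∈ (S : Subgroup G), s ∉ Z := by
  by_contra! hall
  have := card_dvd_of_le (hall : (S : Subgroup G) ≤ Z)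
  rw [h.card_S, h.card_Z] at this
  omega

include h in
/-- Fixing one involution of `Z` in `N(S)` is fixing all. -/
theorem fix_all_Z {n z : G} (hn : n ∈ normalizer ((S : Subgroup G) : Set G)) (hz : z ∈ Z) (hz1 : z ≠ 1)
    (hnz : n * z * n⁻¹ = z) {w : G} (hw : w ∈ Z) : n * w * n⁻¹ = w :=
  fix_all (base_S h) hn hz hz1 hnz hw

include h in
theorem le_cen {z : G} (hz : z ∈ Z) : (S : Subgroup G) ≤ cen z := CIT.UFour.le_centralizer h hz

include h in
theorem proj_inj {z : G} (hz : z ∈ Z) {s t : G} (hs : s ∈ (S : Subgroup G))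
    (ht : t ∈ (S : Subgroup G))
    (e : proj z ⟨s, le_cen h hz hs⟩ = proj z ⟨t, le_cen h hz ht⟩) : s = t := by
  have h1 : s * t⁻¹ ∈ core z := mem_core.2 ⟨mul_mem (le_cen h hz hs) (inv_mem (le_cen h hz ht)), by
    rw [show (⟨s * t⁻¹, mul_mem (le_cen h hz hs) (inv_mem (le_cen h hz ht))⟩ : cen z) =
      ⟨s, le_cen h hz hs⟩ * ⟨t, le_cen h hz ht⟩⁻¹ from rfl, map_mul, map_inv, e, mul_inv_cancel]⟩
  exact mul_inv_eq_one.1 (CIT.UFour.eq_one_of_mem_odd (core_odd z) h1 (mul_mem hs (inv_mem ht)))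

/-- The Sylow subgroup of the quotient. -/
noncomputable def quotSylow {z : G} (hz : z ∈ Z) : Sylow 2 (cen z ⧸ Cfsg.oddCore (cen z)) :=
  haveI : Fact (Nat.Prime 2) := ⟨Nat.prime_two⟩
  (S.subtype (le_cen h hz)).mapSurjective (f := proj z) (QuotientGroup.mk'_surjective _)

/-- The image of `Z` in the quotient. -/
abbrev quotZ (Z : Subgroup G) (z : G) : Subgroup (cen z ⧸ Cfsg.oddCore (cen z)) :=
  (Z.subgroupOf (cen z)).map (proj z)

theorem mem_quotSylow {z : G} (hz : z ∈ Z) {x : cen z ⧸ Cfsg.oddCore (cen z)} :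
    x ∈ (quotSylow h hz : Subgroup (cen z ⧸ Cfsg.oddCore (cen z))) ↔
      ∃ (s : G) (hs : s ∈ (S : Subgroup G)), proj z ⟨s, le_cen h hz hs⟩ = x := by
  constructor
  · rintro ⟨s, hs, rfl⟩
    exact ⟨s, hs, rfl⟩
  · rintro ⟨s, hs, rfl⟩
    exact ⟨⟨s, le_cen h hz hs⟩, hs, rfl⟩

theorem mem_quotZ {z : G} (hz : z ∈ Z) {x : cen z ⧸ Cfsg.oddCore (cen z)} :
    x ∈ quotZ Z z ↔ ∃ (w : G) (hw : w ∈ Z), proj z ⟨w, le_cen h hz (h.Z_le hw)⟩ = x := by
  constructor
  · rintro ⟨w, hw, rfl⟩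
    exact ⟨w, hw, rfl⟩
  · rintro ⟨w, hw, rfl⟩
    exact ⟨⟨w, le_cen h hz (h.Z_le hw)⟩, hw, rfl⟩

theorem quot_base {z : G} (hz : z ∈ Z) :
    Base (quotSylow h hz : Subgroup (cen z ⧸ Cfsg.oddCore (cen z))) (quotZ Z z) := by
  haveI : Fact (Nat.Prime 2) := ⟨Nat.prime_two⟩
  have mulE : ∀ {a b : G} (ha : a ∈ cen z) (hb : b ∈ cen z),
      proj z ⟨a, ha⟩ * proj z ⟨b, hb⟩ = proj z ⟨a * b, mul_mem ha hb⟩ := fun _ _ => rfl
  refine ⟨fun x hx => ?_, ?_, ?_, fun x hx => ?_, fun x hx t ht => ?_, fun x hx e => ?_,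
    fun x hx => ?_, fun x hx hxW v hv => ?_⟩
  · obtain ⟨w, hw, rfl⟩ := (mem_quotZ h hz).1 hx
    exact (mem_quotSylow h hz).2 ⟨w, h.Z_le hw, rfl⟩
  · rw [← h.card_S]
    refine (Nat.card_eq_of_bijective (fun s : (S : Subgroup G) =>
      (⟨_, (mem_quotSylow h hz).2 ⟨s, s.2, rfl⟩⟩ :
        (quotSylow h hz : Subgroup (cen z ⧸ Cfsg.oddCore (cen z))))) ⟨fun s t e => ?_, fun x => ?_⟩).symm
    · exact Subtype.ext (proj_inj h hz s.2 t.2 (congrArg Subtype.val e))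
    · obtain ⟨s, hs, e⟩ := (mem_quotSylow h hz).1 x.2
      exact ⟨⟨s, hs⟩, Subtype.ext e⟩
  · rw [← h.card_Z]
    refine (Nat.card_eq_of_bijective (fun s : Z =>
      (⟨_, (mem_quotZ h hz).2 ⟨s, s.2, rfl⟩⟩ : quotZ Z z)) ⟨fun s t e => ?_, fun x => ?_⟩).symm
    · exact Subtype.ext (proj_inj h hz (h.Z_le s.2) (h.Z_le t.2) (congrArg Subtype.val e))
    · obtain ⟨s, hs, e⟩ := (mem_quotZ h hz).1 x.2
      exact ⟨⟨s, hs⟩, Subtype.ext e⟩
  · obtain ⟨w, hw, rfl⟩ := (mem_quotZ h hz).1 hx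
    rw [mulE, ← map_one (proj z)]
    exact congrArg _ (Subtype.ext (CIT.UFour.mul_self_eq_one h hw))
  · obtain ⟨w, hw, rfl⟩ := (mem_quotZ h hz).1 hx
    obtain ⟨s, hs, rfl⟩ := (mem_quotSylow h hz).1 ht
    rw [mulE, mulE]
    exact congrArg _ (Subtype.ext (h.central w hw s hs))
  · obtain ⟨s, hs, rfl⟩ := (mem_quotSylow h hz).1 hx
    refine (mem_quotZ h hz).2 ⟨s, h.involutions s hs ?_, rfl⟩
    refine proj_inj h hz (mul_mem hs hs) (one_mem _) ?_
    rw [mulE] at e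
    exact e.trans (map_one _).symm
  · obtain ⟨s, hs, rfl⟩ := (mem_quotSylow h hz).1 hx
    exact (mem_quotZ h hz).2 ⟨s * s, h.sq s hs, rfl⟩
  · obtain ⟨s, hs, rfl⟩ := (mem_quotSylow h hz).1 hx
    obtain ⟨w, hw, rfl⟩ := (mem_quotZ h hz).1 hv
    obtain ⟨t, ht, e⟩ := h.conj_full s hs (fun hsZ => hxW ((mem_quotZ h hz).2 ⟨s, hsZ, rfl⟩)) w hw
    refine ⟨_, (mem_quotSylow h hz).2 ⟨t, ht, rfl⟩, ?_⟩
    rw [← map_inv, mulE, ← map_mul, ← map_mul]
    exact congrArg _ (Subtype.ext e)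

include h in
theorem quotZ_central {z : G} (hz : z ∈ Z) (hz1 : z ≠ 1) :
    quotZ Z z ≤ center (cen z ⧸ Cfsg.oddCore (cen z)) := by
  haveI : Fact (Nat.Prime 2) := ⟨Nat.prime_two⟩
  intro x hx
  obtain ⟨w, hw, rfl⟩ := (mem_quotZ h hz).1 hx
  refine mem_center_iff.2 fun y => ?_
  obtain ⟨g, rfl⟩ := QuotientGroup.mk'_surjective _ y
  rcases eq_or_ne w 1 with rfl | hw1
  · rw [show (⟨(1 : G), le_cen h hz (h.Z_le hw)⟩ : cen z) = 1 from rfl, map_one, mul_one, one_mul]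
  have hww := CIT.UFour.mul_self_eq_one h hw
  set w' : cen z := ⟨w, le_cen h hz (h.Z_le hw)⟩ with hw'
  have ho : orderOf w' = 2 := by
    rw [← orderOf_injective (cen z).subtype (cen z).subtype_injective w']
    exact Involutions.Basic.orderOf_two_iff.2 ⟨hww, hw1⟩
  have hiso : Cfsg.IsIsolatedInvolution w' := by
    refine ⟨ho, fun a ha => ?_⟩
    set S' := S.subtype (le_cen h hz)
    set t : G := (a : G) * w * (a : G)⁻¹ with ht
    have hcomm : Commute w t := congrArg Subtype.val ha.eq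
    obtain ⟨c, hc, hcS⟩ := CIT.exists_conj_mem (H := cen z ⊓ cen w) (S := S)
      (le_inf (le_cen h hz) (le_cen h hw)) (t := t)
      (mem_inf.2 ⟨mul_mem (mul_mem a.2 w'.2) (inv_mem a.2),
        mem_centralizer_singleton_iff.2 hcomm.eq.symm⟩)
      ⟨1, by rw [ht, Involutions.Basic.orderOf_conj, pow_one]
             exact Involutions.Basic.orderOf_two_iff.2 ⟨hww, hw1⟩⟩
    have hcZ : c * t * c⁻¹ ∈ Z := h.involutions _ hcS (by
      rw [conj_mul, ht, conj_mul, hww]; group)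
    set g' : cen z := ⟨c, hc.1⟩ * a with hg'
    have hgw : g' * w' * g'⁻¹ = (⟨c * t * c⁻¹, le_cen h hz hcS⟩ : cen z) := Subtype.ext (by
      show c * (a : G) * w * (c * (a : G))⁻¹ = c * ((a : G) * w * (a : G)⁻¹) * c⁻¹
      group)
    have hcen : ∀ v : cen z, (v : G) ∈ Z → v ∈ centralizer ((S' : Subgroup (cen z)) : Set (cen z)) :=
      fun v hv => mem_centralizer_iff.2 fun s hs => Subtype.ext (h.central _ hv s hs).symm
    obtain ⟨n, hn, he⟩ := S'.conj_eq_normalizer_conj_of_mem_centralizer w' g'⁻¹ (hcen _ hw)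
      (by rw [inv_inv, hgw]; exact hcen _ hcZ)
    rw [inv_inv, hgw] at he
    have hnS : (n : G) ∈ normalizer ((S : Subgroup G) : Set G) :=
      mem_normalizer_iff.2 fun x => by
        refine ⟨fun hx => (mem_normalizer_iff.1 hn ⟨x, le_cen h hz hx⟩).1 hx, fun hx => ?_⟩
        have hxc : x ∈ cen z := by
          have := mul_mem (mul_mem (inv_mem n.2) (le_cen h hz hx)) n.2
          simpa [mul_assoc] using this
        exact (mem_normalizer_iff.1 hn ⟨x, hxc⟩).2 hx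
    have hfix := fix_all_Z h (inv_mem hnS) hz hz1 (by
      rw [inv_inv, mul_assoc, ← mem_centralizer_singleton_iff.1 n.2, inv_mul_cancel_left]) hw
    rw [inv_inv] at hfix
    have he' : c * t * c⁻¹ = w := (congrArg Subtype.val he).trans hfix
    refine Subtype.ext ?_
    show t = w
    have hwc : w * c = c * w := (mem_centralizer_singleton_iff.1 hc.2).symm
    calc t = c⁻¹ * (c * t * c⁻¹) * c := by group
      _ = c⁻¹ * (w * c) := by rw [he']; group
      _ = w := by rw [hwc, inv_mul_cancel_left]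
  have h1 : proj z (w' * g * w'⁻¹ * g⁻¹) = 1 :=
    (QuotientGroup.eq_one_iff _).2 (ZStar.Main.commutator_mem_oddCore hiso g)
  rw [map_mul, map_mul, map_mul, map_inv, map_inv, mul_inv_eq_one, mul_inv_eq_iff_eq_mul] at h1
  exact h1.symm

include h in
/-- Every involution is conjugate to a given one of `Z`. -/
theorem isConj_Z {z t : G} (hz : z ∈ Z) (hz1 : z ≠ 1) (ht : orderOf t = 2) : IsConj z t := by
  obtain ⟨c, -, hc⟩ := CIT.exists_conj_mem (H := (⊤ : Subgroup G)) (S := S) le_top (mem_top t)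
    ⟨1, by rw [ht, pow_one]⟩
  have hcZ := h.involutions _ hc (by rw [conj_mul, Involutions.Basic.inv_sq_one ht]; group)
  exact (h.fused z hz _ hcZ hz1 (fun e => Involutions.Basic.ne_one ht (conj_eq_one_iff.1 e))).trans
    (isConj_iff.2 ⟨c, rfl⟩ : IsConj t (c * t * c⁻¹)).symm

/-- The centraliser of an involution of `Z` modulo its core is `S : 5`. -/
theorem quot_five [IsSimpleGroup G] (hG : ¬ IsMulCommutative G) {z : G} (hz : z ∈ Z) (hz1 : z ≠ 1) :
    (quotSylow h hz : Subgroup (cen z ⧸ Cfsg.oddCore (cen z))).Normal ∧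
      Nat.card (cen z ⧸ Cfsg.oddCore (cen z)) = 320 ∧
      ∀ y, y ∉ (quotSylow h hz : Subgroup (cen z ⧸ Cfsg.oddCore (cen z))) →
        ∀ s ∈ (quotSylow h hz : Subgroup (cen z ⧸ Cfsg.oddCore (cen z))),
          y * s * y⁻¹ * s⁻¹ ∈ quotZ Z z → s ∈ quotZ Z z := by
  haveI : Fact (Nat.Prime 2) := ⟨Nat.prime_two⟩
  rcases central_structure (quotSylow h hz) (quot_base h hz) (quotZ_central h hz hz1)
    InvChar.Core.oddCore_quotient_oddCore_eq_bot with htop | hfive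
  · refine (CIT.not_uFourSylow hG (fun t ht => ?_) h).elim
    have hcomp : Cfsg.HasNormalPComplement 2 (cen z) := by
      refine ⟨S.subtype (le_cen h hz), Cfsg.oddCore (cen z), inferInstance,
        isComplement'_of_coprime ?_ ?_⟩
      · rw [← (Cfsg.oddCore (cen z)).card_mul_index]
        congr 1
        rw [index_eq_card, ← Subgroup.card_top (G := cen z ⧸ Cfsg.oddCore (cen z)), ← htop,
          (quot_base h hz).card_T, ← h.card_S]
        exact Nat.card_congr (subgroupOfEquivOfLe (le_cen h hz)).toEquiv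
      · obtain ⟨n, hn⟩ := IsPGroup.iff_card.1 (S.subtype (le_cen h hz)).2
        rw [hn]
        exact InvChar.Core.odd_card_oddCore.coprime_two_right.pow_right n
    obtain ⟨g, rfl⟩ := isConj_iff.1 (isConj_Z h hz hz1 ht)
    have e : (cen z).map (MulAut.conj g).toMonoidHom = cen (g * z * g⁻¹) := by
      ext x
      refine ⟨?_, fun hx => ⟨g⁻¹ * x * g, ?_, ?_⟩⟩
      · rintro ⟨c, hc, rfl⟩
        refine mem_centralizer_singleton_iff.2 ?_
        show g * c * g⁻¹ * (g * z * g⁻¹) = g * z * g⁻¹ * (g * c * g⁻¹)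
        rw [conj_mul, conj_mul, mem_centralizer_singleton_iff.1 hc]
      · refine mem_centralizer_singleton_iff.2 ?_
        calc g⁻¹ * x * g * z = g⁻¹ * (x * (g * z * g⁻¹)) * g := by group
          _ = g⁻¹ * (g * z * g⁻¹ * x) * g := by rw [mem_centralizer_singleton_iff.1 hx]
          _ = z * (g⁻¹ * x * g) := by group
      · show g * (g⁻¹ * x * g) * g⁻¹ = x
        group
    exact (Transfer.NormalPComplement.hasNormalPComplement_congr
      (((cen z).equivMapOfInjective (MulAut.conj g).toMonoidHom (MulAut.conj g).injective).trans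
        (MulEquiv.subgroupCongr e))).1 hcomp
  · exact hfive

variable [IsSimpleGroup G] (hG : ¬ IsMulCommutative G)

include hG in
/-- Membership in `S·O(C(w))` for elements of `N(S)` is trivial action on `S/Z`. -/
theorem proj_mem_iff {w : G} (hw : w ∈ Z) (hw1 : w ≠ 1) {c : G}
    (hc : c ∈ normalizer ((S : Subgroup G) : Set G)) (hcw : c ∈ cen w) :
    proj w ⟨c, hcw⟩ ∈ (quotSylow h hw : Subgroup (cen w ⧸ Cfsg.oddCore (cen w))) ↔
      c ∈ actsTriv S Z h := by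
  constructor
  · intro hmem
    refine ⟨hc, fun s hs => ?_⟩
    obtain ⟨t, ht, e⟩ := (mem_quotSylow h hw).1 hmem
    have hcs : c * s * c⁻¹ * s⁻¹ ∈ (S : Subgroup G) :=
      mul_mem ((mem_normalizer_iff.1 hc s).1 hs) (inv_mem hs)
    have heq : c * s * c⁻¹ * s⁻¹ = t * s * t⁻¹ * s⁻¹ := by
      refine proj_inj h hw hcs (mul_mem (mul_mem (mul_mem ht hs) (inv_mem ht)) (inv_mem hs)) ?_
      have e1 : ∀ (a : G) (ha : a ∈ cen w),
          proj w ⟨a * s * a⁻¹ * s⁻¹, mul_mem (mul_mem (mul_mem ha (le_cen h hw hs)) (inv_mem ha))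
            (inv_mem (le_cen h hw hs))⟩ = proj w ⟨a, ha⟩ * proj w ⟨s, le_cen h hw hs⟩ *
              (proj w ⟨a, ha⟩)⁻¹ * (proj w ⟨s, le_cen h hw hs⟩)⁻¹ := fun _ _ => rfl
      exact (e1 c hcw).trans (by rw [← e]; exact (e1 t _).symm)
    rw [heq]
    exact CIT.UFour.comm_mem h hs ht
  · intro hact
    by_contra hnot
    obtain ⟨s, hs, hsZ⟩ := exists_outside h
    have h1 := (quot_five h hG hw hw1).2.2 _ hnot _ ((mem_quotSylow h hw).2 ⟨s, hs, rfl⟩)
      ((mem_quotZ h hw).2 ⟨_, hact.2 s hs, rfl⟩)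
    obtain ⟨v, hv, e⟩ := (mem_quotZ h hw).1 h1
    exact hsZ (proj_inj h hw (h.Z_le hv) hs e ▸ hv)

include h hG in
/-- Outside `S·O(C(w))` an element of `N(S)` fixes nothing in `S/Z`. -/
theorem free_of_notMem {w : G} (hw : w ∈ Z) (hw1 : w ≠ 1) {c : G}
    (hc : c ∈ normalizer ((S : Subgroup G) : Set G)) (hcw : c ∈ cen w)
    (hna : c ∉ actsTriv S Z h) {s : G} (hs : s ∈ (S : Subgroup G))
    (hcs : c * s * c⁻¹ * s⁻¹ ∈ Z) : s ∈ Z := by
  have h1 := (quot_five h hG hw hw1).2.2 (proj w ⟨c, hcw⟩)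
    (fun hm => hna ((proj_mem_iff h hG hw hw1 hc hcw).1 hm)) _
    ((mem_quotSylow h hw).2 ⟨s, hs, rfl⟩) ((mem_quotZ h hw).2 ⟨_, hcs, rfl⟩)
  obtain ⟨v, hv, e⟩ := (mem_quotZ h hw).1 h1
  exact proj_inj h hw (h.Z_le hv) hs e ▸ hv

include h hG in
/-- An odd subgroup of `C(w)` normalised by `S` lies in the core. -/
theorem le_core {w : G} (hw : w ∈ Z) (hw1 : w ≠ 1) {K : Subgroup G} (hK : K ≤ cen w)
    (hodd : Odd (Nat.card K)) (hS : (S : Subgroup G) ≤ normalizer (K : Set G)) : K ≤ core w := by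
  intro k hk
  refine mem_core.2 ⟨hK hk, ?_⟩
  obtain ⟨hn, -, hfree⟩ := quot_five h hG hw hw1
  set T := (quotSylow h hw : Subgroup (cen w ⧸ Cfsg.oddCore (cen w))) with hT
  set K' := (K.subgroupOf (cen w)).map (proj w) with hK'
  have hK'odd : Odd (Nat.card K') := by
    refine hodd.of_dvd_nat ?_
    exact (card_map_dvd _ _).trans (dvd_of_eq (Nat.card_congr (subgroupOfEquivOfLe hK).toEquiv))
  set x := proj w ⟨k, hK hk⟩ with hx
  have hxK : x ∈ K' := ⟨⟨k, hK hk⟩, hk, rfl⟩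
  have hcomm : ∀ t ∈ T, x * t * x⁻¹ * t⁻¹ = 1 := by
    intro t ht
    obtain ⟨s, hs, rfl⟩ := (mem_quotSylow h hw).1 ht
    refine CIT.UFour.eq_one_of_mem_odd (S := quotSylow h hw) hK'odd ?_
      (mul_mem (hn.conj_mem _ ht x) (inv_mem ht))
    have hkn : s * k⁻¹ * s⁻¹ ∈ K := (mem_normalizer_iff.1 (hS hs) _).1 (inv_mem hk)
    exact ⟨⟨k, hK hk⟩ * (⟨s, le_cen h hw hs⟩ * ⟨k, hK hk⟩⁻¹ * ⟨s, le_cen h hw hs⟩⁻¹),
      (mul_mem hk hkn : _ ∈ K), by simp only [map_mul, map_inv, hx]; group⟩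
  have hxT : x ∈ T := by
    by_contra hxT
    obtain ⟨s, hs, hsZ⟩ := exists_outside h
    have hst : proj w ⟨s, le_cen h hw hs⟩ ∈ T := (mem_quotSylow h hw).2 ⟨s, hs, rfl⟩
    have h1 := hfree x hxT _ hst (by rw [hcomm _ hst]; exact one_mem _)
    obtain ⟨v, hv, e⟩ := (mem_quotZ h hw).1 h1
    exact hsZ (proj_inj h hw (h.Z_le hv) hs e ▸ hv)
  exact CIT.UFour.eq_one_of_mem_odd (S := quotSylow h hw) hK'odd hxK hxT

include h hG in
/-- The element of order five modulo the core. -/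
theorem exists_five {z : G} (hz : z ∈ Z) (hz1 : z ≠ 1) :
    ∃ y ∈ normalizer ((S : Subgroup G) : Set G), (∀ w ∈ Z, y * w = w * y) ∧ y ∉ actsTriv S Z h ∧
      ∀ w ∈ Z, w ≠ 1 → y ^ 5 ∈ core w := by
  haveI : Fact (Nat.Prime 2) := ⟨Nat.prime_two⟩
  haveI : Fact (Nat.Prime 5) := ⟨by norm_num⟩
  obtain ⟨hn, hcard, -⟩ := quot_five h hG hz hz1
  set T := (quotSylow h hz : Subgroup (cen z ⧸ Cfsg.oddCore (cen z))) with hT
  haveI := hn
  have hT64 : Nat.card T = 64 := (quot_base h hz).card_T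
  set L := T.comap (proj z) with hL
  haveI : L.Normal := hn.comap _
  have hSL : ((S.subtype (le_cen h hz) : Sylow 2 (cen z)) : Subgroup (cen z)) ≤ L := fun s hs =>
    (mem_quotSylow h hz).2 ⟨s, hs, rfl⟩
  obtain ⟨x, hx⟩ : ∃ x, x ∉ T := by
    by_contra! hall
    have := card_dvd_of_le (fun x _ => hall x : (⊤ : Subgroup _) ≤ T)
    rw [card_top, hcard, hT64] at this
    omega
  obtain ⟨c, rfl⟩ := QuotientGroup.mk'_surjective _ x
  obtain ⟨n, hnn, l, hl, hcnl⟩ : ∃ n ∈ normalizer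
      (((S.subtype (le_cen h hz) : Sylow 2 (cen z)) : Subgroup (cen z)) : Set (cen z)),
      ∃ l ∈ L, n * l = c := by
    have h1 := Sylow.normalizer_sup_eq_top' (S.subtype (le_cen h hz)) hSL
    have h2 : c ∈ ((normalizer (((S.subtype (le_cen h hz) : Sylow 2 (cen z)) : Subgroup (cen z)) :
        Set (cen z)) : Subgroup (cen z)) : Set (cen z)) * (L : Set (cen z)) := by
      rw [← Subgroup.mul_normal, SetLike.mem_coe]
      exact le_of_eq h1.symm (mem_top c)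
    exact h2
  have hnS : (n : G) ∈ normalizer ((S : Subgroup G) : Set G) :=
    mem_normalizer_iff.2 fun v => by
      refine ⟨fun hv => (mem_normalizer_iff.1 hnn ⟨v, le_cen h hz hv⟩).1 hv, fun hv => ?_⟩
      have hvc : v ∈ cen z := by
        have := mul_mem (mul_mem (inv_mem n.2) (le_cen h hz hv)) n.2
        simpa [mul_assoc] using this
      exact (mem_normalizer_iff.1 hnn ⟨v, hvc⟩).2 hv
  have hnT : proj z n ∉ T := fun hm => hx (by rw [← hcnl, map_mul]; exact mul_mem hm hl)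
  have hidx : T.index = 5 := by
    have := T.card_mul_index
    rw [hT64, hcard] at this
    omega
  have hn5 : proj z n ^ 5 ∈ T := hidx ▸ pow_index_mem T _
  set y : cen z := n ^ 64 with hy
  have hyT : proj z y ∉ T := fun hm => hnT (by
    rw [hy, map_pow] at hm
    have h1 := mul_mem (pow_mem hm 4) (inv_mem (pow_mem hn5 51))
    rwa [← pow_mul, ← pow_mul, ← pow_sub _ (by norm_num), show 64 * 4 - 5 * 51 = 1 from rfl,
      pow_one] at h1)
  have hy5 : proj z y ^ 5 = 1 := by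
    rw [hy, map_pow, ← pow_mul, mul_comm, pow_mul, ← hT64]
    exact congrArg Subtype.val (pow_card_eq_one' (x := (⟨_, hn5⟩ : T)))
  have hy5' : (y : G) ^ 5 ∈ core z := mem_core.2 ⟨pow_mem y.2 5, by
    rw [← hy5, ← map_pow]; rfl⟩
  have hyN : (y : G) ∈ normalizer ((S : Subgroup G) : Set G) := by
    rw [hy, SubgroupClass.coe_pow]; exact pow_mem hnS _
  have hyZ : ∀ w ∈ Z, (y : G) * w = w * y := fun w hw =>
    mul_inv_eq_iff_eq_mul.1 (fix_all_Z h hyN hz hz1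
      (mul_inv_eq_iff_eq_mul.2 (mem_centralizer_singleton_iff.1 y.2)) hw)
  refine ⟨y, hyN, hyZ, fun ha => hyT ((proj_mem_iff h hG hz hz1 hyN y.2).2 ha), fun w hw hw1 => ?_⟩
  have hcomm : ∀ s ∈ (S : Subgroup G), (y : G) ^ 5 * s = s * (y : G) ^ 5 := fun s hs => by
    have h1 : s * (y : G) ^ 5 * s⁻¹ * ((y : G) ^ 5)⁻¹ ∈ core z :=
      mul_mem ((mem_normalizer_iff.1 (core_normal z (le_cen h hz hs)) _).1 hy5') (inv_mem hy5')
    have h2 : s * (y : G) ^ 5 * s⁻¹ * ((y : G) ^ 5)⁻¹ ∈ (S : Subgroup G) := by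
      rw [show s * (y : G) ^ 5 * s⁻¹ * ((y : G) ^ 5)⁻¹ =
        s * ((y : G) ^ 5 * s⁻¹ * ((y : G) ^ 5)⁻¹) by group]
      exact mul_mem hs ((mem_normalizer_iff.1 (pow_mem hyN 5) _).1 (inv_mem hs))
    have h3 := CIT.UFour.eq_one_of_mem_odd (core_odd z) h1 h2
    rw [mul_inv_eq_one, mul_inv_eq_iff_eq_mul] at h3
    exact h3.symm
  refine le_core h hG hw hw1 (K := zpowers ((y : G) ^ 5))
    (zpowers_le.2 (pow_mem (mem_centralizer_singleton_iff.2 (hyZ w hw)) 5)) ?_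
    (fun s hs => mem_normalizer_fintype ?_) (mem_zpowers _)
  · exact (core_odd z).of_dvd_nat (card_dvd_of_le (zpowers_le.2 hy5'))
  · rintro v ⟨i, rfl⟩
    refine ⟨i, ?_⟩
    show ((y : G) ^ 5) ^ i = _
    rw [← conj_zpow, ← hcomm s hs, mul_inv_cancel_right]

include h hG in
/-- Powers of `y` cover `C(w)` over `O(C(w))·S`. -/
theorem exists_pow {y : G} (hy : y ∈ normalizer ((S : Subgroup G) : Set G))
    (hyZ : ∀ w ∈ Z, y * w = w * y) (hna : y ∉ actsTriv S Z h) {w : G} (hw : w ∈ Z) (hw1 : w ≠ 1)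
    {c : G} (hc : c ∈ cen w) :
    ∃ (q : G) (s : G) (j : ℕ), q ∈ core w ∧ s ∈ (S : Subgroup G) ∧ c = q * (s * y ^ j) := by
  haveI : Fact (Nat.Prime 2) := ⟨Nat.prime_two⟩
  obtain ⟨hn, hcard, -⟩ := quot_five h hG hw hw1
  set T := (quotSylow h hw : Subgroup (cen w ⧸ Cfsg.oddCore (cen w))) with hT
  haveI := hn
  have hyw : y ∈ cen w := mem_centralizer_singleton_iff.2 (hyZ w hw)
  have hidx : Nat.card ((cen w ⧸ Cfsg.oddCore (cen w)) ⧸ T) = 5 := by
    have := T.card_mul_index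
    rw [(quot_base h hw).card_T, hcard] at this
    rw [← index_eq_card]
    omega
  haveI : Fact (Nat.Prime 5) := ⟨by norm_num⟩
  have hne : QuotientGroup.mk' T (proj w ⟨y, hyw⟩) ≠ 1 := fun e =>
    hna ((proj_mem_iff h hG hw hw1 hy hyw).1 ((QuotientGroup.eq_one_iff _).1 e))
  obtain ⟨j, hj⟩ := mem_powers_iff_mem_zpowers.2
    (mem_zpowers_of_prime_card hidx hne (g' := QuotientGroup.mk' T (proj w ⟨c, hc⟩)))
  simp only at hj
  have hmem : proj w (⟨c, hc⟩ * (⟨y, hyw⟩ ^ j)⁻¹) ∈ T := by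
    rw [← QuotientGroup.eq_one_iff]
    show QuotientGroup.mk' T _ = 1
    rw [map_mul, map_inv, map_pow, map_mul, map_inv, map_pow, hj, mul_inv_cancel]
  obtain ⟨s, hs, e⟩ := (mem_quotSylow h hw).1 hmem
  refine ⟨c * (y ^ j)⁻¹ * s⁻¹, s, j, mem_core.2 ⟨mul_mem (mul_mem hc (inv_mem (pow_mem hyw j)))
    (inv_mem (le_cen h hw hs)), ?_⟩, hs, by group⟩
  have : proj w (⟨c, hc⟩ * (⟨y, hyw⟩ ^ j)⁻¹ * ⟨s, le_cen h hw hs⟩⁻¹) = 1 := by
    rw [map_mul, map_inv, ← e, mul_inv_cancel]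
  exact this

include h hG in
/-- The local data. -/
theorem exists_localFive :
    ∃ y : G, UFourRows.LocalFive S Z (fun z => Cfsg.centralizerPPrimeCore 2 z) y := by
  haveI : Fact (Nat.Prime 2) := ⟨Nat.prime_two⟩
  haveI : Fact (Nat.Prime 5) := ⟨by norm_num⟩
  obtain ⟨z₀, hz₀, hz₀1⟩ : ∃ z ∈ Z, z ≠ 1 := by
    haveI : Nontrivial Z := Finite.one_lt_card_iff_nontrivial.1 (by rw [h.card_Z]; norm_num)
    obtain ⟨z, hz⟩ := exists_ne (1 : Z)
    exact ⟨z, z.2, fun e => hz (Subtype.ext e)⟩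
  obtain ⟨y, hy, hyZ, hna, hy5⟩ := exists_five h hG hz₀ hz₀1
  have hycen : ∀ w ∈ Z, y ∈ cen w := fun w hw => mem_centralizer_singleton_iff.2 (hyZ w hw)
  have hy5a : y ^ 5 ∈ actsTriv S Z h := (proj_mem_iff h hG hz₀ hz₀1 (pow_mem hy 5)
    (pow_mem (hycen _ hz₀) 5)).1 (by
      obtain ⟨hc, e⟩ := mem_core.1 (hy5 z₀ hz₀ hz₀1)
      rw [e]; exact one_mem _)
  have hzpow : ∀ d : ℤ, ¬ (5 : ℤ) ∣ d → y ^ d ∉ actsTriv S Z h := by
    intro d hd hmem
    obtain ⟨p, q, hpq⟩ := (((Nat.prime_iff_prime_int.1 (by norm_num : Nat.Prime 5)).coprime_iff_not_dvd).2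
      hd).symm
    have h1 := mul_mem (zpow_mem hmem p) (zpow_mem hy5a q)
    rw [← zpow_mul, ← zpow_natCast, ← zpow_mul, ← zpow_add, show d * p + ((5 : ℕ) : ℤ) * q = 1 by
      rw [mul_comm d, mul_comm _ q]; exact_mod_cast hpq, zpow_one] at h1
    exact hna h1
  refine ⟨y, {
    sylow := h
    y_pow := hy5
    y_central := hyZ
    y_norm := hy
    y_free := fun s hs hys => free_of_notMem h hG hz₀ hz₀1 hy (hycen _ hz₀) hna hs hys
    core_le := fun z _ _ => core_le z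
    core_odd := fun z _ _ => core_odd z
    core_normal := fun z _ _ => core_normal z
    decomp := ?_
    core_inter := ?_
    rotate := ?_
    one_class := ?_ }⟩
  · intro w hw hw1 c hc
    obtain ⟨q, s, j, hq, hs, rfl⟩ := exists_pow h hG hy hyZ hna hw hw1 hc
    exact mul_mem (mem_sup_left hq)
      (mem_sup_right (mul_mem (mem_sup_left hs) (mem_sup_right (pow_mem (mem_zpowers y) j))))
  · intro z hz hz1 w hw hw1
    refine le_core h hG hw hw1 inf_le_right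
      ((core_odd z).of_dvd_nat (card_dvd_of_le inf_le_left)) fun s hs => ?_
    refine mem_normalizer_fintype fun v hv => mem_inf.2 ⟨?_, ?_⟩
    · exact (mem_normalizer_iff.1 (core_normal z (le_cen h hz hs)) v).1 hv.1
    · exact mul_mem (mul_mem (le_cen h hw hs) hv.2) (inv_mem (le_cen h hw hs))
  · -- rotations
    intro z hz hz1 w hw hw1
    obtain ⟨a₀, ha₀, -, -, ha₀3, htrans⟩ := CIT.UFour.exists_rotation h
    obtain ⟨k, hk⟩ := htrans z hz hz1 w hw hw1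
    set a := a₀ ^ (k : ℕ) with ha
    have haN : a ∈ normalizer ((S : Subgroup G) : Set G) := pow_mem ha₀ _
    have ha3 : ∀ v ∈ Z, a ^ 3 * v * (a ^ 3)⁻¹ = v := fun v hv => by
      have key : ∀ m : ℕ, (a₀ ^ 3) ^ m * v * ((a₀ ^ 3) ^ m)⁻¹ = v := fun m => by
        induction m with
        | zero => simp
        | succ m ih =>
          rw [pow_succ', show a₀ ^ 3 * (a₀ ^ 3) ^ m * v * (a₀ ^ 3 * (a₀ ^ 3) ^ m)⁻¹ =
            a₀ ^ 3 * ((a₀ ^ 3) ^ m * v * ((a₀ ^ 3) ^ m)⁻¹) * (a₀ ^ 3)⁻¹ by group, ih, ha₀3 v hv]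
      rw [ha, ← pow_mul, mul_comm, pow_mul]
      exact key k
    set N := normalizer ((S : Subgroup G) : Set G)
    haveI hEn : ((actsTriv S Z h).subgroupOf N).Normal :=
      ⟨fun c hc n => mem_subgroupOf.2 (conj_mem_actsTriv h n.2 hc)⟩
    set ρ := QuotientGroup.mk' ((actsTriv S Z h).subgroupOf N) with hρ
    have hρ1 : ∀ {c : N}, ρ c = 1 ↔ (c : G) ∈ actsTriv S Z h := fun {c} => QuotientGroup.eq_one_iff c
    -- inside `C(z₀)` the image is generated by that of `y`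
    have hgen : ∀ c : N, (c : G) ∈ cen z₀ → ∃ j : ℕ, ρ c = ρ ⟨y, hy⟩ ^ j := by
      intro c hc
      obtain ⟨q, s, j, hq, hs, e⟩ := exists_pow h hG hy hyZ hna hz₀ hz₀1 hc
      refine ⟨j, ?_⟩
      have hmem : (c : G) * (y ^ j)⁻¹ ∈ actsTriv S Z h := by
        refine (proj_mem_iff h hG hz₀ hz₀1 (mul_mem c.2 (inv_mem (pow_mem hy j)))
          (mul_mem hc (inv_mem (pow_mem (hycen _ hz₀) j)))).1 ((mem_quotSylow h hz₀).2 ⟨s, hs, ?_⟩)
        obtain ⟨hqc, hq1⟩ := mem_core.1 hq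
        rw [← one_mul (proj z₀ _), ← hq1, ← map_mul]
        refine congrArg _ (Subtype.ext ?_)
        show q * s = (c : G) * (y ^ j)⁻¹
        rw [e]; group
      have h1 : ρ (c * ((⟨y, hy⟩ : N) ^ j)⁻¹) = 1 := hρ1.2 hmem
      rwa [map_mul, map_inv, map_pow, mul_inv_eq_one] at h1
    have haya : ∀ v ∈ Z, a * y * a⁻¹ ∈ cen v := fun v hv => mem_centralizer_singleton_iff.2 (by
      have hv' : a⁻¹ * v * a ∈ Z := by
        simpa using conj_mem_Z h (inv_mem haN) hv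
      calc a * y * a⁻¹ * v = a * (y * (a⁻¹ * v * a)) * a⁻¹ := by group
        _ = a * ((a⁻¹ * v * a) * y) * a⁻¹ := by rw [hyZ _ hv']
        _ = v * (a * y * a⁻¹) := by group)
    set aB := ρ ⟨a, haN⟩ with haB
    set yB := ρ ⟨y, hy⟩ with hyB
    obtain ⟨i, hi⟩ := hgen (⟨a, haN⟩ * ⟨y, hy⟩ * ⟨a, haN⟩⁻¹) (haya _ hz₀)
    rw [map_mul, map_mul, map_inv, ← haB, ← hyB] at hi
    obtain ⟨m, hm⟩ := hgen (⟨a, haN⟩ ^ 3)
      (mem_centralizer_singleton_iff.2 (mul_inv_eq_iff_eq_mul.1 (ha3 z₀ hz₀)))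
    rw [map_pow, ← haB] at hm
    have hconjpow : ∀ n : ℕ, aB * yB ^ n * aB⁻¹ = yB ^ (i * n) := fun n => by
      rw [← conj_pow, hi, ← pow_mul]
    have h3 : yB ^ (i * (i * i)) = yB := by
      rw [← hconjpow, ← hconjpow, ← hi,
        show aB * (aB * (aB * yB * aB⁻¹) * aB⁻¹) * aB⁻¹ = aB ^ 3 * yB * (aB ^ 3)⁻¹ by
          rw [pow_succ, pow_two]; group, hm,
        pow_mul_comm', mul_inv_cancel_right]
    have hord : orderOf yB = 5 := by
      refine orderOf_eq_prime ?_ fun e => hna (hρ1.1 e)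
      rw [hyB, ← map_pow]
      exact hρ1.2 hy5a
    have hi1 : i % 5 = 1 := by
      have h4 : i * (i * i) % 5 = 1 % 5 := by
        rw [← hord]
        exact (pow_eq_pow_iff_modEq.1 (h3.trans (pow_one yB).symm))
      have hlt := Nat.mod_lt i (by norm_num : (5 : ℕ) > 0)
      rw [Nat.mul_mod, Nat.mul_mod i i] at h4
      interval_cases hi5 : i % 5 <;> simp_all
    set x := a * y * a⁻¹ with hx
    have hxw : x ∈ cen w := haya w hw
    have hact : x * y⁻¹ ∈ actsTriv S Z h := by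
      refine (hρ1 (c := ⟨a, haN⟩ * ⟨y, hy⟩ * ⟨a, haN⟩⁻¹ * ⟨y, hy⟩⁻¹)).1 ?_
      rw [map_mul, map_mul, map_mul, map_inv, map_inv, ← haB, ← hyB, hi, ← pow_mod_orderOf, hord,
        hi1, pow_one, mul_inv_cancel]
    have hx5 : x ^ 5 ∈ core w := by
      rw [hx, conj_pow, ← hk]
      show _ ∈ Cfsg.centralizerPPrimeCore 2 (a * z * a⁻¹)
      rw [SolvableSignalizer.centralizerPPrimeCore_conj]
      exact ⟨y ^ 5, hy5 z hz hz1, rfl⟩
    obtain ⟨hn, hcard, -⟩ := quot_five h hG hw hw1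
    set T := (quotSylow h hw : Subgroup (cen w ⧸ Cfsg.oddCore (cen w))) with hT
    haveI := hn
    set xb := proj w ⟨x, hxw⟩ with hxb
    set yb := proj w ⟨y, hycen w hw⟩ with hyb
    have hxyT : xb * yb⁻¹ ∈ T :=
      (proj_mem_iff h hG hw hw1 hact.1 (mul_mem hxw (inv_mem (hycen w hw)))).2 hact
    have hyT : yb ∉ T := fun hm => hna ((proj_mem_iff h hG hw hw1 hy _).1 hm)
    have hxT : xb ∉ T := fun hm => hyT (by
      have := mul_mem (inv_mem hxyT) hm
      rwa [mul_inv_rev, inv_inv, mul_assoc, inv_mul_cancel, mul_one] at this)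
    have h5 : ∀ {v : G} (hv : v ∈ cen w), v ^ 5 ∈ core w → proj w ⟨v, hv⟩ ∉ T →
        orderOf (proj w ⟨v, hv⟩) = 5 := by
      intro v hv hv5 hnT
      refine orderOf_eq_prime ?_ fun e => hnT (e ▸ one_mem T)
      obtain ⟨hc, e⟩ := mem_core.1 hv5
      rw [← map_pow]
      exact e
    have hox : orderOf xb = 5 := h5 hxw hx5 hxT
    have hoy : orderOf yb = 5 := h5 (hycen w hw) (hy5 w hw hw1) hyT
    have hfac : (Nat.card (cen w ⧸ Cfsg.oddCore (cen w))).factorization 5 = 1 := by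
      rw [hcard, show (320 : ℕ) = 5 * 2 ^ 6 by norm_num,
        Nat.factorization_mul (by norm_num) (by norm_num), Nat.factorization_pow,
        Finsupp.add_apply, Nat.Prime.factorization_self (by norm_num : Nat.Prime 5)]
      simp [Nat.prime_two.factorization]
    obtain ⟨l, hl⟩ := MulAction.exists_smul_eq (cen w ⧸ Cfsg.oddCore (cen w))
      (Sylow.ofCard (zpowers yb) (by rw [hfac, Nat.card_zpowers, hoy, pow_one]))
      (Sylow.ofCard (zpowers xb) (by rw [hfac, Nat.card_zpowers, hox, pow_one]))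
    have hl' : l * yb * l⁻¹ ∈ zpowers xb := by
      have h1 : l * yb * l⁻¹ ∈ ((Sylow.ofCard (zpowers xb) (by
          rw [hfac, Nat.card_zpowers, hox, pow_one]) : Sylow 5 _) :
          Subgroup (cen w ⧸ Cfsg.oddCore (cen w))) := by
        rw [← hl, Sylow.coe_subgroup_smul]
        exact ⟨yb, by rw [Sylow.coe_ofCard]; exact mem_zpowers _, rfl⟩
      rwa [Sylow.coe_ofCard] at h1
    obtain ⟨lc, hlc⟩ := QuotientGroup.mk'_surjective _ l
    obtain ⟨q, s, j, hq, hs, elc⟩ := exists_pow h hG hy hyZ hna hw hw1 lc.2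
    obtain ⟨hqc, hq1⟩ := mem_core.1 hq
    set t := proj w ⟨s, le_cen h hw hs⟩ with ht
    have htT : t ∈ T := (mem_quotSylow h hw).2 ⟨s, hs, rfl⟩
    have hl2 : l = t * yb ^ j := by
      have : proj w (⟨q, hqc⟩ * (⟨s, le_cen h hw hs⟩ * ⟨y, hycen w hw⟩ ^ j)) = l := by
        rw [← hlc]; exact congrArg _ (Subtype.ext elc.symm)
      rw [← this, map_mul, hq1, one_mul, map_mul, map_pow]
    rw [hl2, show t * yb ^ j * yb * (t * yb ^ j)⁻¹ = t * (yb ^ j * yb * (yb ^ j)⁻¹) * t⁻¹ by group,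
      pow_mul_comm', mul_inv_cancel_right] at hl'
    obtain ⟨p, hp⟩ := mem_powers_iff_mem_zpowers.2 hl'
    simp only at hp
    -- modulo `T` the exponent is one
    have hq5 : QuotientGroup.mk' T xb = QuotientGroup.mk' T yb := by
      rw [← mul_inv_eq_one, ← map_inv, ← map_mul]
      exact (QuotientGroup.eq_one_iff _).2 hxyT
    have hp' : QuotientGroup.mk' T yb ^ p = QuotientGroup.mk' T yb ^ 1 := by
      rw [pow_one, ← hq5, ← map_pow, hp, map_mul, map_mul, map_inv,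
        (QuotientGroup.eq_one_iff t).2 htT |> fun e => (e : QuotientGroup.mk' T t = 1), one_mul,
        inv_one, mul_one, hq5]
    have hoy' : orderOf (QuotientGroup.mk' T yb) = 5 :=
      ((Nat.dvd_prime (by norm_num)).1 (hoy ▸ orderOf_map_dvd _ yb)).resolve_left fun e =>
        hyT ((QuotientGroup.eq_one_iff _).1 (orderOf_eq_one_iff.1 e))
    have hmod : p % 5 = 1 := by
      have := pow_eq_pow_iff_modEq.1 hp'
      rw [hoy'] at this
      exact this
    rw [← pow_mod_orderOf, hox, hmod, pow_one] at hp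
    refine ⟨s⁻¹ * a, ?_, ?_⟩
    · rw [show s⁻¹ * a * z * (s⁻¹ * a)⁻¹ = s⁻¹ * (a * z * a⁻¹) * s by group, hk, mul_assoc,
        h.central w hw s hs, inv_mul_cancel_left]
    · rw [show s⁻¹ * a * y * (s⁻¹ * a)⁻¹ * y⁻¹ = s⁻¹ * x * s * y⁻¹ by rw [hx]; group]
      refine mem_core.2 ⟨mul_mem (mul_mem (mul_mem (inv_mem (le_cen h hw hs)) hxw)
        (le_cen h hw hs)) (inv_mem (hycen w hw)), ?_⟩
      show t⁻¹ * xb * t * yb⁻¹ = 1
      rw [hp]
      group
  · -- one class outside `Z`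
    intro s hs t ht hsZ htZ
    obtain ⟨a₀, ha₀, -, -, -, htrans⟩ := CIT.UFour.exists_rotation h
    have hsq1 := CIT.UFour.sq_ne_one h ht htZ
    obtain ⟨k, hk⟩ := htrans (t * t) (h.sq t ht) hsq1 (s * s) (h.sq s hs)
      (CIT.UFour.sq_ne_one h hs hsZ)
    set t' := a₀ ^ (k : ℕ) * t * (a₀ ^ (k : ℕ))⁻¹ with ht'
    refine IsConj.trans ?_ (isConj_iff.2 ⟨a₀ ^ (k : ℕ), rfl⟩ : IsConj t t').symm
    have ht'S : t' ∈ (S : Subgroup G) := (mem_normalizer_iff.1 (pow_mem ha₀ _) t).1 ht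
    have hsq : t' * t' = s * s := by rw [ht', conj_mul, hk]
    let f : Fin 5 × Z → {u : (S : Subgroup G) // (u : G) * u = s * s} := fun p =>
      ⟨⟨y ^ (p.1 : ℕ) * s * (y ^ (p.1 : ℕ))⁻¹ * p.2,
        mul_mem ((mem_normalizer_iff.1 (pow_mem hy _) s).1 hs) (h.Z_le p.2.2)⟩, by
        show y ^ (p.1 : ℕ) * s * (y ^ (p.1 : ℕ))⁻¹ * p.2 *
          (y ^ (p.1 : ℕ) * s * (y ^ (p.1 : ℕ))⁻¹ * p.2) = s * s
        set v := y ^ (p.1 : ℕ) * s * (y ^ (p.1 : ℕ))⁻¹ with hv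
        have hvS : v ∈ (S : Subgroup G) := (mem_normalizer_iff.1 (pow_mem hy _) s).1 hs
        rw [mul_assoc, ← mul_assoc (p.2 : G) v, h.central _ p.2.2 v hvS, mul_assoc v,
          CIT.UFour.mul_self_eq_one h p.2.2, mul_one, hv, conj_mul,
          ((show Commute y (s * s) from hyZ _ (h.sq s hs)).pow_left _).eq, mul_inv_cancel_right]⟩
    have hinj : Function.Injective f := by
      rintro ⟨i, v⟩ ⟨j, v'⟩ e
      have e' : y ^ (i : ℕ) * s * (y ^ (i : ℕ))⁻¹ * v = y ^ (j : ℕ) * s * (y ^ (j : ℕ))⁻¹ * v' :=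
        congrArg (fun u : {u : (S : Subgroup G) // (u : G) * u = s * s} => (u.1 : G)) e
      have hij : i = j := by
        by_contra hne
        have hd : ¬ (5 : ℤ) ∣ -((j : ℕ) : ℤ) + (i : ℕ) := fun hdv => hne (Fin.ext (by
          have := i.isLt; have := j.isLt; omega))
        refine hsZ (free_of_notMem h hG hz₀ hz₀1 (zpow_mem hy _)
          (zpow_mem (hycen _ hz₀) _) (hzpow _ hd) hs ?_)
        rw [zpow_add, zpow_neg, zpow_natCast, zpow_natCast]
        have h1 : (y ^ (j : ℕ))⁻¹ * ((v' : G) * (v : G)⁻¹) * (y ^ (j : ℕ)) = v' * (v : G)⁻¹ := by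
          rw [mul_assoc, ← ((show Commute y ((v' : G) * (v : G)⁻¹) from
            hyZ _ (mul_mem v'.2 (inv_mem v.2))).pow_left _).eq, inv_mul_cancel_left]
        have h2 : y ^ (i : ℕ) * s * (y ^ (i : ℕ))⁻¹ =
            y ^ (j : ℕ) * s * (y ^ (j : ℕ))⁻¹ * ((v' : G) * (v : G)⁻¹) := by
          rw [← mul_assoc, ← e']; group
        rw [show (y ^ (j : ℕ))⁻¹ * y ^ (i : ℕ) * s * ((y ^ (j : ℕ))⁻¹ * y ^ (i : ℕ))⁻¹ * s⁻¹ =
          (y ^ (j : ℕ))⁻¹ * (y ^ (i : ℕ) * s * (y ^ (i : ℕ))⁻¹) * y ^ (j : ℕ) * s⁻¹ by group, h2,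
          show (y ^ (j : ℕ))⁻¹ * (y ^ (j : ℕ) * s * (y ^ (j : ℕ))⁻¹ * ((v' : G) * (v : G)⁻¹)) *
            y ^ (j : ℕ) * s⁻¹ = s * ((y ^ (j : ℕ))⁻¹ * ((v' : G) * (v : G)⁻¹) * y ^ (j : ℕ)) * s⁻¹ by
            group, h1, ← h.central _ (mul_mem v'.2 (inv_mem v.2)) s hs, mul_inv_cancel_right]
        exact mul_mem v'.2 (inv_mem v.2)
      subst hij
      exact Prod.ext rfl (Subtype.ext (mul_left_cancel e'))
    have hbij := (Nat.bijective_iff_injective_and_card f).2 ⟨hinj, by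
      rw [Nat.card_prod, Nat.card_fin, h.card_Z,
        (base_S h).card_roots (h.sq s hs) (CIT.UFour.sq_ne_one h hs hsZ)]⟩
    obtain ⟨⟨i, v⟩, hiv⟩ := hbij.2 ⟨⟨t', ht'S⟩, hsq⟩
    have ht'' : y ^ (i : ℕ) * s * (y ^ (i : ℕ))⁻¹ * v = t' :=
      congrArg (fun u : {u : (S : Subgroup G) // (u : G) * u = s * s} => (u.1 : G)) hiv
    rw [← ht'']
    obtain ⟨r, -, hr⟩ := h.conj_full _ ((mem_normalizer_iff.1 (pow_mem hy (i : ℕ)) s).1 hs)
      (fun hZ => hsZ (by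
        have := conj_mem_Z h (inv_mem (pow_mem hy (i : ℕ))) hZ
        simpa [mul_assoc] using this)) v v.2
    exact (isConj_iff.2 ⟨_, rfl⟩ : IsConj s _).trans (isConj_iff.2 ⟨r, hr⟩)

end Cfsg.Agent.UFourType
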