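import Cfsg.Agent.Lib.UFourType.Local
import Cfsg.Agent.Lib.UFourType.Endgame

/-!
# Simple groups with a Sylow 2-subgroup of type `U₃(4)`, given the vanishing of the cores
-/

set_option autoImplicit false
set_option linter.unusedSectionVars false

namespace Cfsg.Agent.UFourType

open Subgroup

universe u v

/-- The cores of the centralisers of involutions are trivial. -/
def CoreTrivial : Prop :=
  ∀ {G : Type u} [Group G] [Finite G] [IsSimpleGroup G], ¬ IsMulCommutative G →
    ∀ (S : Sylow 2 G) (Z : Subgroup G) (y : G),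
      UFourRows.LocalFive S Z (fun z => Cfsg.centralizerPPrimeCore 2 z) y →
      ∀ z ∈ Z, z ≠ 1 → Cfsg.centralizerPPrimeCore 2 z = ⊥

variable {G : Type u} [Group G] [Finite G] [IsSimpleGroup G]

theorem simple_case (hQ : CoreTrivial.{u}) (hG : ¬ IsMulCommutative G) {S : Sylow 2 G}
    {Z : Subgroup G} (h : CIT.UFourSylow S Z) (F : Type v) [Field F] [Fintype F]
    (hF : Fintype.card F = 16) : Nonempty (G ≃* Cfsg.PSU 3 F 4) := by
  obtain ⟨y, hy⟩ := exists_localFive h hG
  refine psu_congr h (fun z hz hz1 => (hy.decomp z hz hz1).trans ?_) (fun z hz hz1 => ?_) F hF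
  · rw [hQ hG S Z y hy z hz hz1, bot_sup_eq]
    exact sup_le le_normalizer (zpowers_le.2 hy.y_norm)
  · have h1 : core z = ⊥ := hQ hG S Z y hy z hz hz1
    have h2 : Cfsg.oddCore (cen z) = ⊥ :=
      (map_eq_bot_iff_of_injective _ (cen z).subtype_injective).1 h1
    rw [← (quot_five h hG hz hz1).2.1, Subgroup.card_eq_card_quotient_mul_card_subgroup
      (Cfsg.oddCore (cen z))]
    conv_lhs => rw [h2, card_bot, mul_one]
    exact Nat.card_congr (QuotientGroup.quotientMulEquivOfEq h2.symm).toEquiv

end Cfsg.Agent.UFourType
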